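import Cfsg.Agent.Lib.Walter.Consumers.Defs
import Cfsg.Agent.Lib.Walter.Rank.Factor
import Cfsg.Agent.Lib.Ree.Entry

/-!
# A simple group of Janko–Ree form is `J₁` or of Ree type
-/

set_option autoImplicit false
set_option linter.style.haveILetI false

namespace CfsgLib.Walter.Consumers

open Subgroup

universe u

theorem card_internal {G : Type u} [Group G] {A B C : Subgroup G}
    (h : Cfsg.IsInternalDirectProduct A B C) : Nat.card C = Nat.card A * Nat.card B := by
  obtain ⟨-, -, hcomm, hinf, rfl⟩ := h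
  have hc : ∀ (a : A) (b : B), Commute (A.subtype a) (B.subtype b) := fun a b => hcomm a a.2 b b.2
  let f : A × B →* G := MonoidHom.noncommCoprod A.subtype B.subtype hc
  have hr : f.range = A ⊔ B :=
    (MonoidHom.noncommCoprod_range A.subtype B.subtype hc).trans (by rw [range_subtype, range_subtype])
  have hinj : Function.Injective f := by
    refine (injective_iff_map_eq_one f).2 fun ⟨a, b⟩ hab => ?_
    have hab' : (a : G) * b = 1 := hab
    have ha : (a : G) ∈ A ⊓ B := ⟨a.2, by rw [eq_inv_of_mul_eq_one_left hab']; exact B.inv_mem b.2⟩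
    rw [hinf, mem_bot] at ha
    rw [ha, one_mul] at hab'
    exact Prod.ext (Subtype.ext ha) (Subtype.ext hab')
  rw [← hr, ← Nat.card_prod]
  exact (Nat.card_congr (MonoidHom.ofInjective hinj).toEquiv).symm

/-- The Ree case of the centralizer form is of Ree type. -/
theorem isReeType_of_pow {X : Type u} [Group X] [Finite X] [IsSimpleGroup X] (hab : AbTwo X) (hr : ReeForm X)
    {t : X} (ht : orderOf t = 2) {F : Type} [Field F] [Fintype F] {m : ℕ} (hm : 1 ≤ m)
    (hF : Fintype.card F = 3 ^ (2 * m + 1))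
    (e : centralizer ({t} : Set X) ≃* Multiplicative (ZMod 2) × Matrix.ProjectiveSpecialLinearGroup (Fin 2) F) :
    Cfsg.IsReeType X := by
  haveI : Fact (Nat.Prime 2) := ⟨Nat.prime_two⟩
  have hs : IsSimpleGroup X := inferInstance
  have hna := Rank.Factor.not_commutative hs (Or.inr hr)
  obtain ⟨E, -, -, -, hE4, F', iF₂, iF₂', hmod, ⟨e'⟩⟩ := Rank.centralizer_of_reeForm hs hr hab ht
  have hodd : Odd (centralizer ({t} : Set X)).index := by
    obtain ⟨S, hS⟩ := (IsPGroup.of_card (p := 2) (n := 1) (G := zpowers t)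
      (by rw [Nat.card_zpowers, ht, pow_one])).exists_le_sylow
    have hle : (S : Subgroup X) ≤ centralizer ({t} : Set X) := fun s hs' =>
      mem_centralizer_singleton_iff.2
        (congrArg Subtype.val (hab S ⟨s, hs'⟩ ⟨t, hS (mem_zpowers t)⟩))
    exact Nat.not_even_iff_odd.1 fun h =>
      S.not_dvd_index ((even_iff_two_dvd.1 h).trans (index_dvd_of_le hle))
  -- the field of the centralizer
  have h8F : Fintype.card F % 8 = 3 := by
    rcases Rank.Factor.psl_mod (F := F) (Or.inr ⟨m, hm, hF⟩) |>.1 with h | h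
    · exact h
    · rw [hF, pow_succ, pow_mul, Nat.mul_mod, Nat.pow_mod] at h
      norm_num at h
  have hcard := card_internal hE4
  rw [Nat.card_congr e.toEquiv, Nat.card_prod, Nat.card_eq_fintype_card (α := Multiplicative (ZMod 2)),
    Nat.card_zpowers, ht, Nat.card_congr e'.toEquiv] at hcard
  have hZ : Fintype.card (Multiplicative (ZMod 2)) = 2 := by simp
  rw [hZ] at hcard
  have h1 := CfsgLib.Classical.card_psl2 (F := F)
  have h2 := CfsgLib.Classical.card_psl2 (F := F')
  have g2 : ∀ x : ℕ, x % 2 = 1 → Nat.gcd 2 (x - 1) = 2 := fun x hx =>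
    Nat.gcd_eq_left (by omega)
  rw [g2 _ (by omega)] at h1 h2
  have hq : Fintype.card F' = Fintype.card F := by
    have heq : Fintype.card F' * ((Fintype.card F' - 1) * (Fintype.card F' + 1)) =
        Fintype.card F * ((Fintype.card F - 1) * (Fintype.card F + 1)) := by
      rw [← h1, ← h2]; omega
    rcases lt_trichotomy (Fintype.card F') (Fintype.card F) with h | h | h
    · exact absurd heq (Nat.mul_lt_mul_of_le_of_lt h.le (Nat.mul_lt_mul_of_le_of_lt (by omega)
        (by omega) (by omega)) (by omega)).ne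
    · exact h
    · exact absurd heq (Nat.mul_lt_mul_of_le_of_lt h.le (Nat.mul_lt_mul_of_le_of_lt (by omega)
        (by omega) (by omega)) (by omega)).ne'
  exact ⟨hs, hna, t, E, m, hm, ht, hodd, hE4, F', iF₂, iF₂', hq.trans hF, ⟨e'⟩⟩

theorem reeType_cases {X : Type u} [Group X] [Finite X] [IsSimpleGroup X] (hab : AbTwo X) (hr : ReeForm X) :
    Cfsg.Spor.IsoJ1 X ∨ Cfsg.IsReeType X := by
  have hr' := hr
  obtain ⟨h8, t, ht, F, iF, iF', hF, ⟨e⟩⟩ := hr'
  rcases hF with h5 | ⟨m, hm, hF⟩
  · obtain ⟨a⟩ := Cfsg.Agent.S0253.result (F := F) h5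
    obtain ⟨S⟩ : Nonempty (Sylow 2 X) := inferInstance
    exact Or.inl (Cfsg.Agent.S1644.result S (isMulCommutative_iff.2 (hab S)) (h8 S).1 t ht
      (e.trans (MulEquiv.prodCongr (MulEquiv.refl _) a)))
  · exact Or.inr (isReeType_of_pow hab hr ht hm hF e)

end CfsgLib.Walter.Consumers
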