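import Cfsg.Agent.Lib.Walter.Defs
import Cfsg.Agent.S0343
import Cfsg.Agent.S1644
import Cfsg.Agent.S0253
import Cfsg.Agent.Lib.Invol.SimpleSixty

/-!
# Consumers of the classification of simple groups with abelian Sylow `2`-subgroups

`Classified` is the classification in centralizer form. The consumers take it as a hypothesis.
-/

set_option autoImplicit false
set_option linter.style.haveILetI false

namespace CfsgLib.Walter

open Subgroup

universe u

/-- The classification: a simple nonabelian group with abelian Sylow `2`-subgroups is in the list. -/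
def Classified : Prop :=
  ∀ (X : Type u) [Group X] [Finite X], IsSimpleGroup X → ¬ IsMulCommutative X → AbTwo X → CentForm X

theorem abTwo_of_sylow {X : Type u} [Group X] [Finite X] (S : Sylow 2 X)
    (hS : IsMulCommutative (S : Subgroup X)) : AbTwo X := by
  haveI : Fact (Nat.Prime 2) := ⟨Nat.prime_two⟩
  intro T a b
  let e := Sylow.equiv T S
  apply e.injective
  rw [map_mul, map_mul]
  exact isMulCommutative_iff.1 hS _ _

namespace Consumers

/-- `PSL(2, 4)` and `PSL(2, 5)` are both the alternating group of degree five. -/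
theorem psl_four_five {F : Type} [Field F] [Fintype F] (hF : Fintype.card F = 4) :
    Nonempty (Matrix.ProjectiveSpecialLinearGroup (Fin 2) F ≃* alternatingGroup (Fin 5)) := by
  classical
  haveI := Matrix.ProjectiveSpecialLinearGroup.rank_two_simple (F := F)
    (by rw [Nat.card_eq_fintype_card, hF])
  have h := CfsgLib.Classical.card_psl2 (F := F)
  rw [hF, show Nat.gcd 2 (4 - 1) = 1 from rfl] at h
  exact CfsgLib.Invol.mulEquiv_alternating_five (by omega)

theorem iso_psl_five {X : Type u} [Group X] {F : Type} [Field F] [Fintype F]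
    (hF : Fintype.card F = 4) (e : X ≃* Matrix.ProjectiveSpecialLinearGroup (Fin 2) F) :
    Nonempty (X ≃* Matrix.ProjectiveSpecialLinearGroup (Fin 2) (ZMod 5)) := by
  haveI : Fact (Nat.Prime 5) := ⟨by norm_num⟩
  obtain ⟨a⟩ := psl_four_five hF
  obtain ⟨b⟩ := Cfsg.Agent.S0253.result (F := ZMod 5) (ZMod.card 5)
  exact ⟨(e.trans a).trans b.symm⟩

/-- A simple group of Janko–Ree form is `J₁` or has the order of a small Ree group. -/
theorem ree_cases {X : Type u} [Group X] [Finite X] [IsSimpleGroup X] (hab : AbTwo X) (hr : ReeForm X) :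
    (Cfsg.IsJ1 X ∧ Cfsg.Spor.IsoJ1 X) ∨ Cfsg.IsRee X := by
  obtain ⟨h8, t, ht, F, iF, iF', hF, ⟨e⟩⟩ := hr
  have h3 : 3 ≤ Fintype.card F := by
    rcases hF with h | ⟨m, -, h⟩
    · omega
    · rw [h, pow_succ]
      have : 0 < 3 ^ (2 * m) := pow_pos (by norm_num) _
      omega
  rcases Cfsg.Agent.S0343.result hab h3 t ht ⟨e⟩ with ⟨m, hm, -, hc⟩ | ⟨h45, hJ⟩
  · exact Or.inr ⟨inferInstance, m, hm, hc⟩
  · refine Or.inl ⟨hJ, ?_⟩
    have h5 : Fintype.card F = 5 := by
      rcases h45 with h | h
      · exfalso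
        rcases hF with h' | ⟨m, -, h'⟩
        · omega
        · have : ¬ Even (3 ^ (2 * m + 1)) := Nat.not_even_iff_odd.2 ((by decide : Odd 3).pow)
          rw [← h', h] at this
          exact this (by decide)
      · exact h
    obtain ⟨a⟩ := Cfsg.Agent.S0253.result (F := F) h5
    obtain ⟨S⟩ : Nonempty (Sylow 2 X) := inferInstance
    exact Cfsg.Agent.S1644.result S (isMulCommutative_iff.2 (hab S)) (h8 S).1 t ht
      (e.trans (MulEquiv.prodCongr (MulEquiv.refl _) a))

theorem ree_isoJ1_or_isRee {X : Type u} [Group X] [Finite X] [IsSimpleGroup X] (hab : AbTwo X)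
    (hr : ReeForm X) : Cfsg.Spor.IsoJ1 X ∨ Cfsg.IsRee X :=
  (ree_cases hab hr).imp_left And.right

/-- The printed list, from the centralizer form. -/
theorem list_of_centForm {X : Type u} [Group X] [Finite X] [IsSimpleGroup X] (hab : AbTwo X) (hc : CentForm X) :
    (∃ a : ℕ, 2 ≤ a ∧ ∃ (F : Type) (_ : Field F) (_ : Fintype F), Fintype.card F = 2 ^ a ∧
        Nonempty (X ≃* Matrix.ProjectiveSpecialLinearGroup (Fin 2) F)) ∨
      (∃ (F : Type) (_ : Field F) (_ : Fintype F), (Fintype.card F % 8 = 3 ∨ Fintype.card F % 8 = 5) ∧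
        Nonempty (X ≃* Matrix.ProjectiveSpecialLinearGroup (Fin 2) F)) ∨
      Cfsg.IsRee X ∨ Cfsg.IsJ1 X := by
  rcases hc with ⟨F, iF, iF', ⟨n, hn, hF⟩ | ⟨-, hF⟩, e⟩ | hr
  · exact Or.inl ⟨n, hn, F, iF, iF', hF, e⟩
  · exact Or.inr (Or.inl ⟨F, iF, iF', hF, e⟩)
  · exact Or.inr (Or.inr ((ree_cases hab hr).symm.imp_right And.left))

end Consumers

end CfsgLib.Walter
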