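import Cfsg.Agent.Lib.Walter.Consumers.Defs
import Cfsg.Agent.Lib.GW.Final
import Cfsg.Agent.Lib.Invol.CyclicIndexTwo
import Cfsg.Agent.Lib.Classical.ProjLine
import Cfsg.Agent.S0225

/-!
# Simple groups with a Sylow `2`-subgroup of order eight
-/

set_option autoImplicit false
set_option linter.style.haveILetI false

namespace CfsgLib.Walter.Consumers

open Subgroup
open scoped commutatorElement

universe u

/-- A noncommutative group of order eight with two involutions is dihedral. -/
theorem dihedral_of_eight {S : Type u} [Group S] (h8 : Nat.card S = 8) (hna : ¬ IsMulCommutative S)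
    {s t : S} (hs : orderOf s = 2) (ht : orderOf t = 2) (hne : s ≠ t) :
    Nonempty (S ≃* DihedralGroup 4) := by
  haveI : Finite S := Nat.finite_of_card_ne_zero (by omega)
  have hdvd : ∀ x : S, orderOf x ∣ 8 := fun x => h8 ▸ orderOf_dvd_natCard x
  obtain ⟨a, ha⟩ : ∃ a : S, orderOf a = 4 := by
    by_contra hno
    push Not at hno
    refine hna (isMulCommutative_iff.2 ?_)
    have hsq : ∀ x : S, x * x = 1 := by
      intro x
      rw [← pow_two, ← orderOf_dvd_iff_pow_eq_one]
      rcases Nat.lt_or_ge (orderOf x) 8 with h | h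
      · have h1 := hdvd x
        have h2 := hno x
        have h3 := orderOf_pos x
        interval_cases h' : orderOf x <;> simp_all
      · exfalso
        have h1 : orderOf x = 8 := le_antisymm (Nat.le_of_dvd (by norm_num) (hdvd x)) h
        have h2 : orderOf (x ^ 2) = 4 := by rw [orderOf_pow, h1]; rfl
        exact hno _ h2
    intro x y
    have h := hsq (x * y)
    rw [mul_eq_one_iff_eq_inv, mul_inv_rev, inv_eq_of_mul_eq_one_right (hsq x),
      inv_eq_of_mul_eq_one_right (hsq y)] at h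
    exact h
  have hi : (zpowers a).index = 2 := by
    have h := (zpowers a).card_mul_index
    rw [Nat.card_zpowers, ha, h8] at h
    omega
  have hone : ∀ x ∈ zpowers a, orderOf x = 2 → x = a ^ 2 := by
    intro x hx hx2
    obtain ⟨k, hk, rfl⟩ : ∃ k < 4, a ^ k = x := by
      obtain ⟨k, rfl⟩ := (mem_powers_iff_mem_zpowers.2 hx)
      exact ⟨k % 4, Nat.mod_lt _ (by norm_num), by rw [← ha, pow_mod_orderOf]⟩
    rw [orderOf_pow, ha] at hx2
    interval_cases k <;> simp_all
  obtain ⟨b, hb, hb2⟩ : ∃ b : S, b ∉ zpowers a ∧ orderOf b = 2 := by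
    by_contra hno
    push Not at hno
    refine hne ((hone s ?_ hs).trans (hone t ?_ ht).symm)
    · by_contra h; exact hno s h hs
    · by_contra h; exact hno t h ht
  haveI := Subgroup.normal_of_index_eq_two hi
  have hconj : b * a * b⁻¹ = a⁻¹ := by
    have hmem : b * a * b⁻¹ ∈ zpowers a :=
      (inferInstance : (zpowers a).Normal).conj_mem a (mem_zpowers a) b
    have hord : orderOf (b * a * b⁻¹) = 4 := by
      rw [← MulAut.conj_apply, MulEquiv.orderOf_eq, ha]
    obtain ⟨k, hk, hk'⟩ : ∃ k < 4, a ^ k = b * a * b⁻¹ := by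
      obtain ⟨k, hk⟩ := (mem_powers_iff_mem_zpowers.2 hmem)
      exact ⟨k % 4, Nat.mod_lt _ (by norm_num), by rw [← ha, pow_mod_orderOf]; exact hk⟩
    rw [← hk', orderOf_pow, ha] at hord
    interval_cases k
    · simp at hord
    · exfalso
      rw [pow_one] at hk'
      have hab : a * b = b * a := by rw [eq_mul_inv_iff_mul_eq.1 hk']
      refine hna (isMulCommutative_iff.2 ?_)
      have hcl : ∀ x : S, ∃ i : ℤ, x = a ^ i ∨ x = a ^ i * b := by
        intro x
        by_cases hx : x ∈ zpowers a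
        · obtain ⟨i, rfl⟩ := mem_zpowers_iff.1 hx
          exact ⟨i, Or.inl rfl⟩
        · obtain ⟨i, hi'⟩ := mem_zpowers_iff.1 (show x * b⁻¹ ∈ zpowers a by
            rw [mul_mem_iff_of_index_two hi, inv_mem_iff]; tauto)
          exact ⟨i, Or.inr (by rw [hi', inv_mul_cancel_right])⟩
      have hc : ∀ i : ℤ, Commute (a ^ i) b := fun i => Commute.zpow_left hab i
      intro x y
      obtain ⟨i, rfl | rfl⟩ := hcl x <;> obtain ⟨j, rfl | rfl⟩ := hcl y
      · exact ((Commute.refl a).zpow_zpow i j).eq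
      · exact (((Commute.refl a).zpow_zpow i j).mul_right (hc i)).eq
      · exact (((Commute.refl a).zpow_zpow i j).mul_left (hc j).symm).eq
      · exact ((((Commute.refl a).zpow_zpow i j).mul_right (hc i)).mul_left
          ((hc j).symm.mul_right (Commute.refl b))).eq
    · simp at hord
    · rw [← hk', eq_comm, inv_eq_iff_mul_eq_one, ← pow_succ', show (3 + 1 : ℕ) = orderOf a from ha.symm,
        pow_orderOf_eq_one]
  have F : CfsgLib.Invol.CyclicFrame 4 (-1) 0 a b :=
    ⟨ha, h8, hb, by rw [zpow_neg_one, hconj],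
      by rw [zpow_zero, ← pow_two, ← hb2, pow_orderOf_eq_one], by norm_num⟩
  exact F.dihedralEquiv

theorem psl_even_eight {F : Type} [Field F] [Fintype F] {n k : ℕ} (hn : 2 ≤ n)
    (hF : Fintype.card F = 2 ^ n) (hk : Odd k)
    (h : Nat.card (Matrix.ProjectiveSpecialLinearGroup (Fin 2) F) = 8 * k) : Fintype.card F = 8 := by
  have hc := CfsgLib.Classical.card_psl2 (F := F)
  have hev : Even (2 ^ n) := (Nat.even_pow).2 ⟨even_two, by omega⟩
  obtain ⟨m, hm⟩ := hev
  have h1 : 1 ≤ 2 ^ n := Nat.one_le_two_pow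
  have hg : Nat.gcd 2 (2 ^ n - 1) = 1 :=
    (Nat.prime_two.coprime_iff_not_dvd.2 (by omega)).gcd_eq_one
  rw [hF, hg, one_mul, h] at hc
  have hodd : Odd ((2 ^ n - 1) * (2 ^ n + 1)) :=
    (Nat.Even.sub_odd h1 ⟨m, hm⟩ odd_one).mul (Even.add_one ⟨m, hm⟩)
  have hco : ∀ {j : ℕ}, Odd j → ∀ e, Nat.Coprime (2 ^ e) j := fun hj e =>
    (Nat.Coprime.pow_left e (Nat.coprime_two_left.2 hj))
  have h3 : 2 ^ n ∣ 2 ^ 3 := (hco hk n).dvd_of_dvd_mul_right ⟨_, by rw [show 2 ^ 3 = 8 from rfl]; exact hc⟩
  have h4 : 2 ^ 3 ∣ 2 ^ n := (hco hodd 3).dvd_of_dvd_mul_right ⟨k, hc.symm⟩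
  rw [hF, Nat.dvd_antisymm h3 h4]
  rfl

theorem psl_odd_eight {F : Type} [Field F] [Fintype F] (hF : Odd (Fintype.card F)) {k : ℕ}
    (hk : Odd k) (h : Nat.card (Matrix.ProjectiveSpecialLinearGroup (Fin 2) F) = 8 * k) :
    Fintype.card F % 16 = 7 ∨ Fintype.card F % 16 = 9 := by
  have hc := CfsgLib.Classical.card_psl2 (F := F)
  set q := Fintype.card F
  obtain ⟨j, hj⟩ := hk
  have hq1 : 1 ≤ q := by rcases hF with ⟨i, hi⟩; omega
  have hg : Nat.gcd 2 (q - 1) = 2 := Nat.gcd_eq_left (by rcases hF with ⟨i, hi⟩; omega)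
  rw [hg, h] at hc
  have hz : (q : ZMod 32) * ((q - 1) * (q + 1)) = 16 := by
    have := congrArg (Nat.cast (R := ZMod 32)) hc
    rw [hj] at this
    push_cast [Nat.cast_sub hq1] at this
    rw [← this]
    ring_nf
    rw [show (32 : ZMod 32) = 0 from by decide]
    ring
  have key : ∀ x : ZMod 32, x * ((x - 1) * (x + 1)) = 16 → x.val % 2 = 1 →
      x.val % 16 = 7 ∨ x.val % 16 = 9 := by decide
  have h2 := key (q : ZMod 32) hz (by rw [ZMod.val_natCast]; rcases hF with ⟨i, hi⟩; omega)
  rw [ZMod.val_natCast] at h2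
  omega

theorem sylow_eight_cases {G : Type u} [Group G] [Finite G] [IsSimpleGroup G]
    (classified : Classified.{u}) (hG : ¬ IsMulCommutative G) (T : Sylow 2 G)
    (hT : Nat.card ↥(T : Subgroup G) = 8) :
    (∃ (F : Type) (_ : Field F) (_ : Fintype F), Fintype.card F = 8 ∧
      Nonempty (G ≃* Matrix.ProjectiveSpecialLinearGroup (Fin 2) F)) ∨
    (∃ (F : Type) (_ : Field F) (_ : Fintype F), (Fintype.card F % 16 = 7 ∨ Fintype.card F % 16 = 9) ∧
      Nonempty (G ≃* Matrix.ProjectiveSpecialLinearGroup (Fin 2) F)) ∨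
    Nonempty (G ≃* alternatingGroup (Fin 7)) ∨ Cfsg.IsJ1 G ∨ Cfsg.IsRee G := by
  haveI : Fact (Nat.Prime 2) := ⟨Nat.prime_two⟩
  have hk : Odd (T : Subgroup G).index := Nat.not_even_iff_odd.1 fun h =>
    T.not_dvd_index (even_iff_two_dvd.1 h)
  have hcard : Nat.card G = 8 * (T : Subgroup G).index := by rw [← hT, card_mul_index]
  have hps : ∀ {F : Type} [Field F] [Fintype F], (G ≃* Matrix.ProjectiveSpecialLinearGroup (Fin 2) F) →
      Nat.card (Matrix.ProjectiveSpecialLinearGroup (Fin 2) F) = 8 * (T : Subgroup G).index :=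
    fun e => by rw [← Nat.card_congr e.toEquiv, hcard]
  by_cases hab : IsMulCommutative ↥(T : Subgroup G)
  · rcases classified G inferInstance hG (abTwo_of_sylow T hab) with
      ⟨F, iF, iF', ⟨n, hn, hF⟩ | ⟨h5, hF⟩, ⟨e⟩⟩ | hr
    · exact Or.inl ⟨F, iF, iF', psl_even_eight hn hF hk (hps e), ⟨e⟩⟩
    · exfalso
      have := psl_odd_eight (Nat.odd_iff.2 (by omega)) hk (hps e)
      omega
    · rcases ree_cases (abTwo_of_sylow T hab) hr with ⟨hJ, -⟩ | hR
      · exact Or.inr (Or.inr (Or.inr (Or.inl hJ)))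
      · exact Or.inr (Or.inr (Or.inr (Or.inr hR)))
  -- two involutions in `T`
  obtain ⟨s, t, hs, ht, hne⟩ : ∃ s t : ↥(T : Subgroup G), orderOf s = 2 ∧ orderOf t = 2 ∧ s ≠ t := by
    by_contra hno
    push Not at hno
    have heven : Even (Nat.card G) := ⟨4 * (T : Subgroup G).index, by omega⟩
    obtain ⟨z, hz, N, hN, hNodd, hzN⟩ := Cfsg.Agent.S0225.result heven (fun E hE => by
      haveI := hE
      obtain ⟨S, hS⟩ := (IsPGroup.of_card (p := 2) (n := 2) (G := E)
        (IsKleinFour.card_four)).exists_le_sylow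
      let e := Sylow.equiv S T
      have hinv : ∀ x : E, x ≠ 1 → orderOf (e ⟨x, hS x.2⟩) = 2 := fun x hx => by
        rw [MulEquiv.orderOf_eq, ← Subgroup.orderOf_coe, Subgroup.coe_mk, Subgroup.orderOf_coe]
        exact orderOf_eq_prime (by rw [pow_two]; exact IsKleinFour.mul_self x) hx
      haveI : Nontrivial E := Finite.one_lt_card_iff_nontrivial.1 (by rw [IsKleinFour.card_four]; norm_num)
      obtain ⟨x, hx⟩ := exists_ne (1 : E)
      obtain ⟨y, hy, hyx⟩ : ∃ y : E, y ≠ 1 ∧ y ≠ x := by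
        by_contra h
        push Not at h
        have hle : (⊤ : Subgroup E) ≤ zpowers x := fun y _ => by
          by_cases hy : y = 1
          · rw [hy]; exact one_mem _
          · rw [h y hy]; exact mem_zpowers x
        have h1 := Subgroup.card_le_of_le hle
        rw [Subgroup.card_top, IsKleinFour.card_four, Nat.card_zpowers,
          orderOf_eq_prime (show x ^ 2 = 1 by rw [pow_two]; exact IsKleinFour.mul_self x) hx] at h1
        omega
      exact hyx (Subtype.ext (congrArg (fun z : ↥(S : Subgroup G) => (z : G))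
        (e.injective (hno _ _ (hinv y hy) (hinv x hx))))))
    rcases (inferInstance : IsSimpleGroup G).eq_bot_or_eq_top_of_normal N hN with rfl | rfl
    · have hzc : z ∈ Subgroup.center G := mem_center_iff.2 fun g => by
        have h := mem_bot.1 (hzN g)
        rw [mul_inv_eq_one, mul_inv_eq_iff_eq_mul] at h
        exact h.symm
      rcases (inferInstance : IsSimpleGroup G).eq_bot_or_eq_top_of_normal (Subgroup.center G)
        inferInstance with h | h
      · rw [h, mem_bot] at hzc
        rw [hzc, orderOf_one] at hz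
        omega
      · exact hG (isMulCommutative_iff.2 fun a b =>
          (mem_center_iff.1 (h ▸ Subgroup.mem_top a : a ∈ Subgroup.center G) b).symm)
    · rw [Subgroup.card_top] at hNodd
      exact Nat.not_even_iff_odd.2 hNodd heven
  obtain ⟨e⟩ := dihedral_of_eight hT hab hs ht hne
  haveI : Group.IsPerfect G := ⟨((inferInstance : IsSimpleGroup G).eq_bot_or_eq_top_of_normal _
    inferInstance).resolve_left fun h => hG (isMulCommutative_iff.2 fun a b =>
      commutatorElement_eq_one_iff_mul_comm.1 (mem_bot.1 (h ▸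
        (Subgroup.commutator_mem_commutator (Subgroup.mem_top a) (Subgroup.mem_top b) :
          ⁅a, b⁆ ∈ commutator G))))⟩
  have hcore : Cfsg.oddCore G = ⊥ :=
    ((inferInstance : IsSimpleGroup G).eq_bot_or_eq_top_of_normal _ inferInstance).resolve_right fun h => by
      have h1 := CfsgLib.Coprime.pPrimeCore_not_dvd (G := G) Nat.prime_two
      rw [show Cfsg.pPrimeCore 2 G = ⊤ from h, Subgroup.card_top, hcard] at h1
      exact h1 ⟨4 * (T : Subgroup G).index, by ring⟩
  let q : G ≃* G ⧸ Cfsg.oddCore G :=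
    (QuotientGroup.quotientBot (G := G)).symm.trans (QuotientGroup.quotientMulEquivOfEq hcore.symm)
  rcases (CfsgLib.GW.gw_perfect G (CfsgLib.GW.dihTwo_of_sylow T (by norm_num) e)).congr q with
    ⟨F, iF, iF', hodd, -, ⟨f⟩⟩ | hA
  · exact Or.inr (Or.inl ⟨F, iF, iF', psl_odd_eight hodd hk (hps f), ⟨f⟩⟩)
  · exact Or.inr (Or.inr (Or.inl hA))

end CfsgLib.Walter.Consumers
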