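import Cfsg.Agent.Lib.Char.Exceptional
import Cfsg.Agent.Lib.Char.Linear

/-!
# An abelian trivial intersection subgroup with many regular linear characters

If almost all linear characters of the abelian TI subgroup `P` have stabilizer `P` in `N(P)`, the others
have small stabilizers and `U ≤ P` is normal in `N(P)`, then an irreducible character of `G` is constant
on `U` and not on `P`.
-/

set_option autoImplicit false
set_option linter.unusedSectionVars false
set_option linter.style.haveILetI false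

namespace CfsgLib.Walter.Consumers

open Subgroup Cfsg CfsgLib.Char
open scoped ComplexConjugate

universe u

variable {G : Type u} [Group G] (P : Subgroup G)

/-- `P` inside its normalizer. -/
abbrev nPart : Subgroup ↥(normalizer (P : Set G)) := P.subgroupOf (normalizer (P : Set G))

instance nPart_normal : (nPart P).Normal := normal_subgroupOf_of_le_normalizer le_rfl

/-- The conjugate of a linear character. -/
def dualAct (n : ↥(normalizer (P : Set G))) (μ : nPart P →* ℂˣ) : nPart P →* ℂˣ :=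
  μ.comp (MulAut.conjNormal n⁻¹).toMonoidHom

theorem dualAct_apply (n : ↥(normalizer (P : Set G))) (μ : nPart P →* ℂˣ) (x : nPart P) :
    dualAct P n μ x = μ (MulAut.conjNormal n⁻¹ x) := rfl

theorem dualAct_dualAct (n k : ↥(normalizer (P : Set G))) (μ : nPart P →* ℂˣ) :
    dualAct P n (dualAct P k μ) = dualAct P (n * k) μ := by
  refine MonoidHom.ext fun x => ?_
  simp only [dualAct_apply, mul_inv_rev, map_mul, MulAut.mul_apply]

theorem dualAct_one (μ : nPart P →* ℂˣ) : dualAct P 1 μ = μ := by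
  refine MonoidHom.ext fun x => ?_
  simp [dualAct_apply]

theorem dualAct_of_mem (hc : ∀ a ∈ P, ∀ b ∈ P, a * b = b * a) {n : ↥(normalizer (P : Set G))}
    (hn : n ∈ nPart P) (μ : nPart P →* ℂˣ) : dualAct P n μ = μ := by
  refine MonoidHom.ext fun x => congrArg μ ?_
  refine Subtype.ext (Subtype.ext ?_)
  show (n : G)⁻¹ * ((x : ↥(normalizer (P : Set G))) : G) * ((n : G)⁻¹)⁻¹ = _
  rw [hc _ (inv_mem (show (n : G) ∈ P from hn)) _ (show ((x : ↥(normalizer (P : Set G))) : G) ∈ P from x.2),
    inv_inv, inv_mul_cancel_right]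

/-- The stabilizer is `P`. -/
def RegDual (μ : nPart P →* ℂˣ) : Prop :=
  ∀ n : ↥(normalizer (P : Set G)), dualAct P n μ = μ → n ∈ nPart P

theorem RegDual.act {μ : nPart P →* ℂˣ} (h : RegDual P μ) (k : ↥(normalizer (P : Set G))) :
    RegDual P (dualAct P k μ) := by
  intro n hn
  have h1 : dualAct P (k⁻¹ * n * k) μ = μ := by
    rw [← dualAct_dualAct, ← dualAct_dualAct, hn, dualAct_dualAct, inv_mul_cancel, dualAct_one]
  have h2 := (nPart_normal P).conj_mem _ (h _ h1) k
  simpa [mul_assoc] using h2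

variable [Fintype G]

/-- The induced character on the normalizer. -/
noncomputable def thetaN [Fintype ↥(normalizer (P : Set G))] (μ : nPart P →* ℂˣ) :
    ↥(normalizer (P : Set G)) → ℂ :=
  indFun (nPart P) fun x => (μ x : ℂ)

/-- The multiplicity of a linear character in a restriction. -/
noncomputable def multP [Fintype (nPart P)] (χ : G → ℂ) (μ : nPart P →* ℂˣ) : ℂ :=
  classInner (fun x : nPart P => (μ x : ℂ)) (fun x : nPart P => χ ((x : ↥(normalizer (P : Set G))) : G))

section

variable [Fintype ↥(normalizer (P : Set G))] [Fintype (nPart P)]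

theorem thetaN_apply (μ : nPart P →* ℂˣ) (x : nPart P) :
    thetaN P μ x = (Nat.card (nPart P) : ℂ)⁻¹ * ∑ n : ↥(normalizer (P : Set G)), (dualAct P n μ x : ℂ) := by
  simp only [thetaN, indFun]
  congr 1
  refine Finset.sum_congr rfl fun n _ => ?_
  have hm : n⁻¹ * (x : ↥(normalizer (P : Set G))) * n ∈ nPart P := by
    simpa using (nPart_normal P).conj_mem _ x.2 n⁻¹
  rw [extendByZero_mem _ _ hm, dualAct_apply]
  congr 2
  exact Subtype.ext (by simp)

theorem thetaN_zero (μ : nPart P →* ℂˣ) (y : ↥(normalizer (P : Set G))) (hy : (y : G) ∉ (P : Set G)) :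
    thetaN P μ y = 0 := by
  simp only [thetaN, indFun]
  rw [Finset.sum_eq_zero fun n _ => extendByZero_not_mem _ _ fun h => hy ?_, mul_zero]
  have h2 := (nPart_normal P).conj_mem _ h n
  simp only [mul_assoc, mul_inv_cancel_left, mul_inv_cancel, mul_one] at h2
  exact h2

theorem thetaN_gen (μ : nPart P →* ℂˣ) :
    IsGeneralizedCharacter ↥(normalizer (P : Set G)) (thetaN P μ) :=
  isGeneralizedCharacter_indFun _
    (isGeneralizedCharacter_of_isCharacter (isCharacter_of_isIrr (isIrrCharacter_lin μ)))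

theorem thetaN_one (μ : nPart P →* ℂˣ) : thetaN P μ 1 = ((nPart P).index : ℂ) := by
  rw [thetaN, indFun_one]; simp

theorem classInner_lin (μ ν : nPart P →* ℂˣ) [Decidable (μ = ν)] :
    classInner (fun x : nPart P => (μ x : ℂ)) (fun x : nPart P => (ν x : ℂ)) = if μ = ν then 1 else 0 := by
  classical
  have h := classInner_irr (⟨_, isIrrCharacter_lin μ⟩ : IrrCharacter (nPart P)) ⟨_, isIrrCharacter_lin ν⟩
  rw [h]
  by_cases e : μ = ν
  · rw [if_pos e, if_pos (by subst e; rfl)]
  · rw [if_neg e, if_neg fun e' => e (MonoidHom.ext fun x => Units.ext (congrFun (congrArg Subtype.val e') x))]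

theorem thetaN_inner (μ ν : nPart P →* ℂˣ) :
    classInner (thetaN P μ) (thetaN P ν) = (Nat.card (nPart P) : ℂ)⁻¹ *
      (Nat.card {n : ↥(normalizer (P : Set G)) // dualAct P n ν = μ} : ℂ) := by
  classical
  rw [show thetaN P μ = indFun (nPart P) (fun x => (μ x : ℂ)) from rfl,
    classInner_indFun _ _ _ (isClassFunction_of_isGeneralized (thetaN_gen P ν))]
  have e : (fun x : nPart P => thetaN P ν x) = (Nat.card (nPart P) : ℂ)⁻¹ •
      ∑ n : ↥(normalizer (P : Set G)), fun x : nPart P => (dualAct P n ν x : ℂ) := by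
    funext x
    simp [thetaN_apply, Finset.sum_apply]
  rw [e, classInner_smul_right, classInner_sum_right, map_inv₀, map_natCast,
    Finset.sum_congr rfl fun n _ => classInner_lin P μ (dualAct P n ν), Finset.sum_boole,
    Nat.card_eq_fintype_card (α := {n : ↥(normalizer (P : Set G)) // dualAct P n ν = μ}),
    Fintype.card_subtype]
  simp only [eq_comm]

theorem thetaN_res (μ : nPart P →* ℂˣ) {χ : G → ℂ} (hχ : IsClassFunction G χ) :
    classInner (thetaN P μ) (fun n : ↥(normalizer (P : Set G)) => χ n) = multP P χ μ :=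
  classInner_indFun _ _ _ fun a b => by
    show χ ((b * a * b⁻¹ : ↥(normalizer (P : Set G))) : G) = _
    exact hχ a b

theorem multP_nat {χ : G → ℂ} (hχ : IsCharacter G χ) (μ : nPart P →* ℂˣ) : ∃ m : ℕ, multP P χ μ = m :=
  classInner_isCharacter (isCharacter_of_isIrr (isIrrCharacter_lin μ))
    (isCharacter_comp hχ ((normalizer (P : Set G)).subtype.comp (nPart P).subtype))

theorem multP_act {χ : G → ℂ} (hχ : IsClassFunction G χ) (n : ↥(normalizer (P : Set G)))
    (μ : nPart P →* ℂˣ) : multP P χ (dualAct P n μ) = multP P χ μ := by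
  simp only [multP, classInner]
  congr 1
  refine Fintype.sum_bijective (MulAut.conjNormal n⁻¹ : MulAut (nPart P))
    (MulEquiv.bijective _) _ _ fun x => ?_
  rw [dualAct_apply]
  congr 2
  exact (hχ (((x : ↥(normalizer (P : Set G))) : G)) ((n : G)⁻¹)).symm

theorem sum_degree_bound (hc : ∀ a ∈ P, ∀ b ∈ P, a * b = b * a) {χ : G → ℂ} (hχ : IsCharacter G χ)
    {d : ℕ} (hd : χ 1 = d) (S : Set (nPart P →* ℂˣ)) (hS : ∀ μ ∈ S, multP P χ μ ≠ 0) :
    S.ncard ≤ d ∧ ((∀ μ ∉ S, multP P χ μ = 0) → ∀ x : nPart P, (∀ μ ∈ S, μ x = 1) →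
      χ ((x : ↥(normalizer (P : Set G))) : G) = χ 1) := by
  classical
  haveI := Fintype.ofFinite (IrrCharacter (nPart P))
  have hcomm : ∀ a b : nPart P, a * b = b * a := fun a b => Subtype.ext (Subtype.ext (hc _ a.2 _ b.2))
  set f : nPart P → ℂ := fun x => χ ((x : ↥(normalizer (P : Set G))) : G) with hf
  have hfc : IsCharacter (nPart P) f :=
    isCharacter_comp hχ ((normalizer (P : Set G)).subtype.comp (nPart P).subtype)
  let e : (nPart P →* ℂˣ) ≃ IrrCharacter (nPart P) :=
    linearCharEquiv.trans (Equiv.subtypeUnivEquiv fun ψ => degree_one_of_comm hcomm ψ)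
  have he : ∀ μ x, (e μ : nPart P → ℂ) x = (μ x : ℂ) := fun μ x => rfl
  haveI := Fintype.ofEquiv _ e.symm
  have hm : ∀ μ, ∃ m : ℕ, classInner f (e μ : nPart P → ℂ) = m ∧ multP P χ μ = m := fun μ => by
    obtain ⟨m, hm⟩ := multP_nat P hχ μ
    refine ⟨m, ?_, hm⟩
    rw [← classInner_conj]
    show conj (multP P χ μ) = m
    rw [hm, map_natCast]
  choose m hm hm' using hm
  have hexp : ∀ x, f x = ∑ μ, (m μ : ℂ) * (μ x : ℂ) := fun x => by
    conv_lhs => rw [classFun_expand (isClassFunction_of_isCharacter hfc)]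
    rw [Finset.sum_apply, ← e.sum_comp]
    exact Finset.sum_congr rfl fun μ _ => by simp [hm, he]
  have hdeg : d = ∑ μ, m μ := by
    have h := hexp 1
    simp only [map_one, Units.val_one, mul_one, hf, OneMemClass.coe_one, hd] at h
    exact_mod_cast h
  refine ⟨?_, fun h0 x hx => ?_⟩
  · rw [hdeg, Set.ncard_eq_toFinset_card']
    calc S.toFinset.card = ∑ μ ∈ S.toFinset, 1 := by simp
      _ ≤ ∑ μ ∈ S.toFinset, m μ := Finset.sum_le_sum fun μ hμ => Nat.one_le_iff_ne_zero.2 fun h =>
          hS μ (Set.mem_toFinset.1 hμ) (by rw [hm', h, Nat.cast_zero])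
      _ ≤ ∑ μ, m μ := Finset.sum_le_sum_of_subset (Finset.subset_univ _)
  · show f x = χ 1
    rw [hd, hdeg, hexp]
    push_cast
    refine Finset.sum_congr rfl fun μ _ => ?_
    by_cases hμ : μ ∈ S
    · rw [hx μ hμ, Units.val_one, mul_one]
    · rw [← hm', h0 μ hμ, zero_mul]

end

/-- An irreducible character constant on `U` but not on `P`. -/
theorem exists_char_const_of_abelian_TI (hc : ∀ a ∈ P, ∀ b ∈ P, a * b = b * a)
    (hTI : ∀ g : G, g ∉ normalizer (P : Set G) → ∀ x ∈ P, g * x * g⁻¹ ∈ P → x = 1)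
    (U : Subgroup G) (hUP : U ≤ P)
    (hstab : ∀ ν : nPart P →* ℂˣ, ν ≠ 1 →
      Nat.card {n : ↥(normalizer (P : Set G)) // dualAct P n ν = ν} ≤ 2 * Nat.card (nPart P))
    (μ₀ : nPart P →* ℂˣ) (hμ₀ : RegDual P μ₀) (hμ1 : μ₀ ≠ 1)
    (hμU : ∀ x : nPart P, ∀ n : ↥(normalizer (P : Set G)),
      ((x : ↥(normalizer (P : Set G))) : G) ∈ U → dualAct P n μ₀ x = 1)
    (hbig : ∀ M : ℕ, Nat.card {μ : nPart P →* ℂˣ // RegDual P μ} ≤ M * (nPart P).index →
      4 ≤ M - 1 ∧ Nat.card G <
        (M - 1) * (Nat.card {μ : nPart P →* ℂˣ // RegDual P μ} - (nPart P).index) ^ 2) :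
    ∃ χ : IrrCharacter G, (∀ u ∈ U, (χ : G → ℂ) u = (χ : G → ℂ) 1) ∧
      ∃ a ∈ P, (χ : G → ℂ) a ≠ (χ : G → ℂ) 1 := by
  classical
  haveI : Finite (nPart P →* ℂˣ) := by
    haveI : IsMulCommutative (nPart P) := isMulCommutative_iff.2 fun a b =>
      Subtype.ext (Subtype.ext (hc _ a.2 _ b.2))
    exact Finite.of_equiv _ (linearCharEquiv (G := nPart P)).symm
  haveI := Fintype.ofFinite ↥(normalizer (P : Set G))
  haveI := Fintype.ofFinite (nPart P)
  haveI := Fintype.ofFinite (IrrCharacter G)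
  have hP0 : (Nat.card (nPart P) : ℂ) ≠ 0 := by exact_mod_cast Nat.card_pos.ne'
  -- orbits of regular characters
  let st : Setoid {μ : nPart P →* ℂˣ // RegDual P μ} :=
    { r := fun a b => ∃ n, dualAct P n a.1 = b.1
      iseqv :=
        { refl := fun a => ⟨1, dualAct_one P _⟩
          symm := fun {a b} ⟨n, hn⟩ => ⟨n⁻¹, by rw [← hn, dualAct_dualAct, inv_mul_cancel, dualAct_one]⟩
          trans := fun {a b c} ⟨n, hn⟩ ⟨k, hk⟩ => ⟨k * n, by rw [← dualAct_dualAct, hn, hk]⟩ } }
  haveI : Finite (Quotient st) := Finite.of_surjective _ Quotient.mk_surjective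
  haveI := Fintype.ofFinite (Quotient st)
  set w := (nPart P).index with hw
  set R := Nat.card {μ : nPart P →* ℂˣ // RegDual P μ} with hR
  set M := Fintype.card (Quotient st) with hM
  have hfib : ∀ c : Quotient st, Nat.card {a : {μ : nPart P →* ℂˣ // RegDual P μ} // ⟦a⟧ = c} ≤ w := by
    intro c
    induction c using Quotient.ind with | _ b => ?_
    let g : ↥(normalizer (P : Set G)) ⧸ nPart P → {a : {μ : nPart P →* ℂˣ // RegDual P μ} // ⟦a⟧ = ⟦b⟧} :=
      fun z => ⟨⟨dualAct P z.out b.1, b.2.act P z.out⟩, (Quotient.sound (s := st) ⟨z.out, rfl⟩).symm⟩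
    rw [hw, Subgroup.index_eq_card]
    refine Nat.card_le_card_of_surjective g fun ⟨a, ha⟩ => ?_
    obtain ⟨n, hn⟩ := Quotient.exact (s := st) ha.symm
    obtain ⟨p, hp⟩ := QuotientGroup.mk_out_eq_mul (nPart P) n
    refine ⟨QuotientGroup.mk n, Subtype.ext (Subtype.ext ?_)⟩
    show dualAct P _ b.1 = a.1
    rw [hp, ← dualAct_dualAct, dualAct_of_mem P hc p.2, hn]
  have hRM : R ≤ M * w := by
    rw [hR, Nat.card_congr (Equiv.sigmaFiberEquiv (fun a : {μ : nPart P →* ℂˣ // RegDual P μ} =>
      (⟦a⟧ : Quotient st))).symm, Nat.card_sigma]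
    refine (Finset.sum_le_sum fun c _ => hfib c).trans ?_
    rw [Finset.sum_const, Finset.card_univ, smul_eq_mul]
  obtain ⟨hM4, hGbig⟩ := hbig M hRM
  let eQ : Fin M ≃ Quotient st := (Fintype.equivFin (Quotient st)).symm
  let rep : Fin M → nPart P →* ℂˣ := fun i => (eQ i).out.1
  have hrep : ∀ i, RegDual P (rep i) := fun i => (eQ i).out.2
  set i₁ := eQ.symm ⟦⟨μ₀, hμ₀⟩⟧ with hi₁
  obtain ⟨b, hb⟩ : ∃ b, b ≠ i₁ := by
    haveI : Nontrivial (Fin M) := Fintype.one_lt_card_iff_nontrivial.1 (by rw [Fintype.card_fin]; omega)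
    exact exists_ne i₁
  have horb : ∀ i j, i ≠ j → ∀ n, dualAct P n (rep i) ≠ rep j := fun i j hij n hn => hij (eQ.injective (by
    rw [← (eQ i).out_eq, ← (eQ j).out_eq]; exact Quotient.sound ⟨n, hn⟩))
  have hclass : ∀ μ, RegDual P μ → ∃ i n, dualAct P n (rep i) = μ := fun μ hμ => by
    obtain ⟨n, hn⟩ := Quotient.exact (s := st) (Quotient.out_eq (⟦⟨μ, hμ⟩⟧ : Quotient st))
    refine ⟨eQ.symm ⟦⟨μ, hμ⟩⟧, n, ?_⟩
    simp only [rep, Equiv.apply_symm_apply]
    exact hn
  have hθ : ∀ i j, classInner (thetaN P (rep i)) (thetaN P (rep j)) = if i = j then 1 else 0 := by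
    intro i j
    rw [thetaN_inner]
    split_ifs with h
    · subst h
      rw [Nat.card_congr (Equiv.subtypeEquivRight fun n => (⟨fun hn => hrep i n hn,
        fun hn => dualAct_of_mem P hc hn _⟩ : dualAct P n (rep i) = rep i ↔ n ∈ nPart P))]
      exact inv_mul_cancel₀ hP0
    · haveI : IsEmpty {n : ↥(normalizer (P : Set G)) // dualAct P n (rep j) = rep i} :=
        ⟨fun ⟨n, hn⟩ => horb j i (Ne.symm h) n hn⟩
      rw [show Nat.card {n : ↥(normalizer (P : Set G)) // dualAct P n (rep j) = rep i} = 0 from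
        Nat.card_of_isEmpty, Nat.cast_zero, mul_zero]
  have hcf : ∀ μ, IsClassFunction _ (thetaN P μ) := fun μ => isClassFunction_of_isGeneralized (thetaN_gen P μ)
  have hiso : ∀ μ ν κ η : nPart P →* ℂˣ,
      classInner (indFun _ (thetaN P μ - thetaN P ν)) (indFun _ (thetaN P κ - thetaN P η)) =
        classInner (thetaN P μ - thetaN P ν) (thetaN P κ - thetaN P η) := fun μ ν κ η =>
    classInner_indFun_TI (P : Set G) hTI _ _
      (fun a b => by simp only [Pi.sub_apply]; rw [hcf κ a b, hcf η a b])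
      (fun y hy => by rw [Pi.sub_apply, thetaN_zero P μ y hy, thetaN_zero P ν y hy, sub_zero])
      (fun y hy => by rw [Pi.sub_apply, thetaN_zero P κ y hy, thetaN_zero P η y hy, sub_zero])
      (by rw [Pi.sub_apply, thetaN_one, thetaN_one, sub_self])
  have hco : ∀ (μ ν : nPart P →* ℂˣ) (χ : IrrCharacter G),
      classInner (indFun _ (thetaN P μ - thetaN P ν)) (χ : G → ℂ) =
        multP P (χ : G → ℂ) μ - multP P (χ : G → ℂ) ν := fun μ ν χ => by
    rw [classInner_indFun _ _ _ (isClassFunction_irr χ), classInner_sub_left,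
      thetaN_res P μ (isClassFunction_irr χ), thetaN_res P ν (isClassFunction_irr χ)]
  have hgen : ∀ μ ν : nPart P →* ℂˣ, IsGeneralizedCharacter G (indFun _ (thetaN P μ - thetaN P ν)) :=
    fun μ ν => isGeneralizedCharacter_indFun _ (isGeneralizedCharacter_sub (thetaN_gen P μ) (thetaN_gen P ν))
  obtain ⟨ε, hε, X, hX, hXinj, hτ⟩ := exceptional_of_isometry b
    (fun i => indFun _ (thetaN P (rep i) - thetaN P (rep b))) (by simp [indFun_zero])
    (fun i => hgen _ _) (fun i => by rw [indFun_one, Pi.sub_apply, thetaN_one, thetaN_one, sub_self, mul_zero])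
    (fun i j hi hj => by
      rw [hiso, classInner_sub_left, classInner_sub_right, classInner_sub_right, hθ, hθ, hθ, hθ,
        if_neg hi, if_neg (Ne.symm hj), if_pos rfl]
      split_ifs <;> norm_num)
  let χ : Fin M → IrrCharacter G := fun i => ⟨X i, hX i⟩
  have hχinj : Function.Injective χ := fun i j h => hXinj (congrArg Subtype.val h)
  have hεr : conj ε = ε := by rcases hε with rfl | rfl <;> simp
  have hval : ∀ (i : Fin M) (η : IrrCharacter G), multP P (η : G → ℂ) (rep i) - multP P (η : G → ℂ) (rep b) =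
      ε * ((if χ i = η then 1 else 0) - (if χ b = η then 1 else 0)) := fun i η => by
    rw [← hco, hτ i, classInner_smul_left, classInner_sub_left]
    show ε * (classInner (χ i : G → ℂ) η - classInner (χ b : G → ℂ) η) = _
    rw [classInner_irr, classInner_irr]
  have hm : ∀ (η : IrrCharacter G) μ, ∃ m : ℕ, multP P (η : G → ℂ) μ = m := fun η =>
    multP_nat P (isCharacter_irr η)
  choose m hm using hm
  choose d hd0 hd using fun j => isIrrCharacter_degree (χ j).2
  have hdeq : ∀ j, d j = d b := fun j => by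
    have h := congrFun (hτ j) 1
    rw [indFun_one, Pi.sub_apply, thetaN_one, thetaN_one, sub_self, mul_zero, Pi.smul_apply, Pi.sub_apply,
      show X j 1 = (d j : ℂ) from hd j, show X b 1 = (d b : ℂ) from hd b] at h
    have h' : ((d j : ℂ) - d b) = 0 := (mul_eq_zero.1 h.symm).resolve_left (by rcases hε with rfl | rfl <;> norm_num)
    exact_mod_cast sub_eq_zero.1 h'
  -- regular characters outside one orbit
  have hout : ∀ i, R - w ≤ {μ : nPart P →* ℂˣ | RegDual P μ ∧ ∀ n, dualAct P n (rep i) ≠ μ}.ncard := by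
    intro i
    set T := {a : {μ : nPart P →* ℂˣ // RegDual P μ} | ⟦a⟧ = eQ i} with hT
    have h1 : Tᶜ.ncard ≤ {μ : nPart P →* ℂˣ | RegDual P μ ∧ ∀ n, dualAct P n (rep i) ≠ μ}.ncard := by
      rw [← Set.ncard_image_of_injective Tᶜ Subtype.val_injective]
      refine Set.ncard_le_ncard ?_
      rintro _ ⟨a, ha, rfl⟩
      exact ⟨a.2, fun n hn => ha ((Quotient.sound (s := st) (a := (eQ i).out) ⟨n, hn⟩).symm.trans (eQ i).out_eq)⟩
    have h2 := Set.ncard_add_ncard_compl T
    have h3 : T.ncard ≤ w := (Nat.card_coe_set_eq T) ▸ hfib (eQ i)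
    omega
  -- no exceptional character contains all regular orbits
  have hsmall : d b < R - w := by
    by_contra! hge
    have h1 : ∑ i : Fin M, (d i) ^ 2 ≤ Nat.card G := by
      have h2 := sum_degree_sq (G := G)
      have hdeg : ∀ η : IrrCharacter G, ∃ k : ℕ, (η : G → ℂ) 1 = k := fun η =>
        isCharacter_degree (isCharacter_irr η)
      choose k hk using hdeg
      have h3 : ∑ η : IrrCharacter G, (k η) ^ 2 = Nat.card G := by
        simp only [hk] at h2
        exact_mod_cast h2
      have h4 : ∀ i, d i = k (χ i) := fun i => by exact_mod_cast (hd i).symm.trans (hk (χ i))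
      rw [← h3, Finset.sum_congr rfl fun i _ => by rw [h4 i],
        ← Finset.sum_image (f := fun η => (k η) ^ 2) hχinj.injOn]
      exact Finset.sum_le_sum_of_subset (Finset.subset_univ _)
    have h5 : M * (R - w) ^ 2 ≤ ∑ i : Fin M, (d i) ^ 2 := by
      rw [Finset.sum_congr rfl fun i _ => by rw [hdeq i], Finset.sum_const, Finset.card_univ,
        Fintype.card_fin, smul_eq_mul]
      exact Nat.mul_le_mul_left _ (Nat.pow_le_pow_left hge 2)
    have h6 : (M - 1) * (R - w) ^ 2 ≤ M * (R - w) ^ 2 := Nat.mul_le_mul_right _ (Nat.sub_le _ _)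
    omega
  have hnotall : ∀ i j, ¬ ∀ l, l ≠ i → m (χ j) (rep l) ≠ 0 := by
    intro i j hall
    have h := (sum_degree_bound P hc (isCharacter_irr (χ j)) (hd j)
      {μ : nPart P →* ℂˣ | RegDual P μ ∧ ∀ n, dualAct P n (rep i) ≠ μ} fun μ ⟨hμ, hμi⟩ => by
        obtain ⟨l, n, rfl⟩ := hclass μ hμ
        rw [multP_act P (isClassFunction_irr _), hm]
        exact_mod_cast hall l fun e => hμi n (by rw [e])).1
    rw [hdeq j] at h
    have := hout i
    omega
  -- the sign is one and the multiplicities are the identity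
  have hz : ∀ i j, i ≠ b → j ≠ b → m (χ j) (rep i) = if i = j then 1 else 0 := by
    have key : ∀ i j, j ≠ b →
        (m (χ j) (rep i) : ℂ) - m (χ j) (rep b) = ε * (if i = j then 1 else 0) := by
      intro i j hj
      have h := hval i (χ j)
      rw [hm, hm, if_neg (hχinj.ne hj.symm), sub_zero] at h
      simpa [hχinj.eq_iff] using h
    have hε1 : ε = 1 := by
      refine hε.resolve_right fun he => ?_
      have h := key i₁ i₁ hb.symm
      rw [he, if_pos rfl, mul_one] at h
      have h' : (m (χ i₁) (rep i₁) : ℤ) - m (χ i₁) (rep b) = -1 := by exact_mod_cast h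
      refine hnotall i₁ i₁ fun l hl => ?_
      have h2 := key l i₁ hb.symm
      rw [if_neg hl, mul_zero] at h2
      have h2' : (m (χ i₁) (rep l) : ℤ) - m (χ i₁) (rep b) = 0 := by exact_mod_cast h2
      omega
    intro i j hi hj
    have h0 : m (χ j) (rep b) = 0 := by
      by_contra h0
      refine hnotall j j fun l hl => ?_
      have h2 := key l j hj
      rw [if_neg hl, mul_zero] at h2
      have h2' : (m (χ j) (rep l) : ℤ) - m (χ j) (rep b) = 0 := by exact_mod_cast h2
      omega
    have h := key i j hj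
    rw [h0, hε1, Nat.cast_zero, sub_zero, one_mul] at h
    exact_mod_cast h
  have hzb : ∀ j, j ≠ b → m (χ j) (rep b) = 0 := by
    intro j hj
    by_contra h0
    obtain ⟨i, hib, hij⟩ : ∃ i, i ≠ b ∧ i ≠ j := by
      obtain ⟨i, hi⟩ := Finset.exists_mem_notMem_of_card_lt_card (s := ({b, j} : Finset (Fin M))) (t := Finset.univ)
        (by rw [Finset.card_pair (Ne.symm hj), Finset.card_univ, Fintype.card_fin]; omega)
      exact ⟨i, fun e => hi.2 (by simp [e]), fun e => hi.2 (by simp [e])⟩
    have h := hval i (χ j)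
    rw [hm, hm, hz i j hib hj, if_neg hij, if_neg (hχinj.ne hij), if_neg (hχinj.ne hj.symm), sub_zero,
      mul_zero, Nat.cast_zero, zero_sub, neg_eq_zero] at h
    exact h0 (by exact_mod_cast h)
  -- singular nontrivial characters do not occur
  have hsing : ∀ ν, ν ≠ 1 → ¬ RegDual P ν → ∀ j, j ≠ b → m (χ j) ν = 0 := by
    intro ν hν hns j hj
    set ψ := indFun _ (thetaN P ν - thetaN P (rep b)) with hψ
    have hne : ∀ i n, dualAct P n (rep i) ≠ ν := fun i n hn => hns (hn ▸ (hrep i).act P n)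
    have h0 : ∀ i, classInner (thetaN P ν) (thetaN P (rep i)) = 0 := fun i => by
      rw [thetaN_inner]
      haveI : IsEmpty {n : ↥(normalizer (P : Set G)) // dualAct P n (rep i) = ν} :=
        ⟨fun ⟨n, hn⟩ => hne i n hn⟩
      rw [show Nat.card {n : ↥(normalizer (P : Set G)) // dualAct P n (rep i) = ν} = 0 from
        Nat.card_of_isEmpty, Nat.cast_zero, mul_zero]
    have h0' : ∀ i, classInner (thetaN P (rep i)) (thetaN P ν) = 0 := fun i => by
      rw [← classInner_conj, h0, map_zero]
    set s := Nat.card {n : ↥(normalizer (P : Set G)) // dualAct P n ν = ν} with hs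
    have hnorm : classInner ψ ψ = (s : ℂ) / Nat.card (nPart P) + 1 := by
      rw [hψ, hiso, classInner_sub_left, classInner_sub_right, classInner_sub_right, h0, h0', hθ, if_pos rfl,
        thetaN_inner, ← hs]
      ring
    obtain ⟨c, hc1, -, hc3⟩ := generalized_expand (hgen ν (rep b))
    rw [← hψ] at hc1 hc3
    have hcj : ∀ i, i ≠ b → c (χ i) = m (χ i) ν := fun i hi => by
      have h := hc1 (χ i)
      rw [hψ, hco, hm, hm, hzb i hi, Nat.cast_zero, sub_zero] at h
      exact_mod_cast h.symm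
    have hconst : ∀ i, i ≠ b → c (χ i) = c (χ b) + 1 := fun i hi => by
      have hε' : ε = 1 := by
        have h := hval i (χ i)
        rw [hm, hm, hz i i hi hi, hzb i hi, if_pos rfl, if_pos rfl, if_neg (hχinj.ne hi.symm)] at h
        simpa using h.symm
      have h : classInner ψ (indFun _ (thetaN P (rep i) - thetaN P (rep b))) = 1 := by
        rw [hψ, hiso, classInner_sub_left, classInner_sub_right, classInner_sub_right, h0, h0, hθ, hθ,
          if_neg (Ne.symm hi), if_pos rfl]
        ring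
      rw [hτ i, hε', one_smul, classInner_sub_right] at h
      have h1 : (c (χ i) : ℂ) - c (χ b) = 1 := by rw [← hc1, ← hc1]; exact h
      have h2 : c (χ i) - c (χ b) = 1 := by exact_mod_cast h1
      omega
    by_contra hne0
    have hbound : (M - 1 : ℕ) ≤ (∑ η : IrrCharacter G, c η ^ 2) := by
      have hsub : ∑ i ∈ Finset.univ.erase b, c (χ i) ^ 2 ≤ ∑ η : IrrCharacter G, c η ^ 2 := by
        rw [← Finset.sum_image (f := fun η => c η ^ 2) (g := χ) hχinj.injOn]
        exact Finset.sum_le_sum_of_subset_of_nonneg (Finset.subset_univ _) fun η _ _ => sq_nonneg _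
      refine le_trans ?_ hsub
      calc ((M - 1 : ℕ) : ℤ) = ∑ i ∈ Finset.univ.erase b, (1 : ℤ) := by
            rw [Finset.sum_const, Finset.card_erase_of_mem (Finset.mem_univ b), Finset.card_univ,
              Fintype.card_fin, nsmul_eq_mul, mul_one]
        _ ≤ _ := Finset.sum_le_sum fun i hi => by
            have hib := (Finset.mem_erase.1 hi).1
            have h1 : c (χ i) = c (χ j) := by rw [hconst i hib, hconst j hj]
            have h2 : c (χ j) ≠ 0 := by rw [hcj j hj]; exact_mod_cast hne0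
            rw [h1]
            nlinarith [Int.one_le_abs h2, sq_abs (c (χ j))]
    have h7 : ((∑ η : IrrCharacter G, c η ^ 2 : ℤ) : ℂ) * Nat.card (nPart P) = (s : ℂ) + Nat.card (nPart P) := by
      rw [← hc3, hnorm]; field_simp
    have h8 : (∑ η : IrrCharacter G, c η ^ 2) * (Nat.card (nPart P) : ℤ) = (s : ℤ) + Nat.card (nPart P) := by
      exact_mod_cast h7
    have h9 := hstab ν hν
    rw [← hs] at h9
    have h10 : ((M - 1 : ℕ) : ℤ) * Nat.card (nPart P) ≤ (∑ η : IrrCharacter G, c η ^ 2) * Nat.card (nPart P) :=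
      mul_le_mul_of_nonneg_right hbound (Int.natCast_nonneg _)
    have h11 : (4 : ℤ) ≤ ((M - 1 : ℕ) : ℤ) := by exact_mod_cast hM4
    have h12 : (0 : ℤ) < Nat.card (nPart P) := by exact_mod_cast Nat.card_pos
    have h13 : (s : ℤ) ≤ 2 * Nat.card (nPart P) := by exact_mod_cast h9
    nlinarith
  refine ⟨χ i₁, fun u hu => ?_, ?_⟩
  · have hh := (sum_degree_bound P hc (isCharacter_irr (χ i₁)) (hd i₁)
      {ν | multP P (χ i₁ : G → ℂ) ν ≠ 0} fun μ hμ => hμ).2 (fun μ hμ => not_not.1 hμ)
      ⟨⟨u, le_normalizer (hUP hu)⟩, hUP hu⟩ fun ν hν => by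
        by_contra hνu
        have hν1 : ν ≠ 1 := fun e => hνu (by rw [e]; rfl)
        refine hν ?_
        by_cases hr : RegDual P ν
        · obtain ⟨i, n, rfl⟩ := hclass ν hr
          rw [multP_act P (isClassFunction_irr _), hm]
          by_cases hib : i = b
          · rw [hib, hzb i₁ hb.symm, Nat.cast_zero]
          · rw [hz i i₁ hib hb.symm, if_neg, Nat.cast_zero]
            intro hi
            refine hνu ?_
            obtain ⟨k, hk⟩ := Quotient.exact (s := st) ((eQ i₁).out_eq.trans (eQ.apply_symm_apply _)).symm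
            rw [hi, show rep i₁ = dualAct P k μ₀ from hk.symm, dualAct_dualAct]
            exact hμU _ _ hu
        · rw [hm, hsing ν hν1 hr i₁ hb.symm, Nat.cast_zero]
    exact hh
  · by_contra! hconst
    have h1 : multP P (χ i₁ : G → ℂ) (rep i₁) = (1 : ℂ) := by rw [hm, hz i₁ i₁ hb.symm hb.symm, if_pos rfl, Nat.cast_one]
    have hne1 : rep i₁ ≠ 1 := by
      intro e
      obtain ⟨k, hk⟩ := Quotient.exact (s := st) ((eQ i₁).out_eq.trans (eQ.apply_symm_apply _)).symm
      have h1 : dualAct P k μ₀ = 1 := hk.trans e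
      refine hμ1 ?_
      rw [← dualAct_one P μ₀, ← inv_mul_cancel k, ← dualAct_dualAct, h1]
      rfl
    have h2 : multP P (χ i₁ : G → ℂ) (rep i₁) = 0 := by
      rw [multP, show (fun x : nPart P => (χ i₁ : G → ℂ) ((x : ↥(normalizer (P : Set G))) : G)) =
        (conj ((χ i₁ : G → ℂ) 1)) • (fun x : nPart P => ((1 : nPart P →* ℂˣ) x : ℂ)) from funext fun x => by
          rw [hconst _ (show ((x : ↥(normalizer (P : Set G))) : G) ∈ P from x.2), conj_irr_one]; simp, classInner_smul_right, classInner_lin, if_neg hne1, mul_zero]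
    exact one_ne_zero (h1.symm.trans h2)

end CfsgLib.Walter.Consumers
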