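import Cfsg.Agent.Lib.Walter.Consumers.AbelianTI
import Cfsg.Agent.Lib.Ree.Degree

/-!
# In a simple group of Ree type the Sylow `3`-subgroups are not abelian
-/

set_option autoImplicit false
set_option linter.unusedSectionVars false
set_option linter.style.haveILetI false

namespace CfsgLib.Walter.Consumers

open Subgroup Cfsg CfsgLib.Char CfsgLib.ReeType

universe u

variable {G : Type u} [Group G] [Fintype G] {q m n : ℕ} (T : Setup G q m n)

theorem exists_pow_three {a : G} {j : ℕ} (ha : a ^ 3 ^ j = 1) (h1 : a ≠ 1) :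
    ∃ i : ℕ, orderOf (a ^ i) = 3 := by
  obtain ⟨k, -, hk⟩ := (Nat.dvd_prime_pow Nat.prime_three).1 (orderOf_dvd_of_pow_eq_one ha)
  have h3 : 3 ∣ orderOf a := by
    rcases Nat.eq_zero_or_pos k with rfl | hk0
    · exact absurd (orderOf_eq_one_iff.1 (by simpa using hk)) h1
    · rw [hk]; exact dvd_pow_self 3 hk0.ne'
  exact ⟨_, orderOf_pow_orderOf_div (orderOf_pos a).ne' h3⟩

include T in
theorem card_sylow_three (Q : Sylow 3 G) : Nat.card (Q : Subgroup G) = q ^ 3 := by
  haveI : Fact (Nat.Prime 3) := ⟨Nat.prime_three⟩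
  obtain ⟨k, hk, hq⟩ := T.kit.q_pow
  obtain ⟨j, hj⟩ := Q.2.exists_card_eq
  have hdvd : Nat.card (Q : Subgroup G) ∣ q ^ 3 * ((q ^ 3 + 1) * (q - 1)) := by
    rw [← mul_assoc, ← T.card_eq]; exact card_subgroup_dvd_card _
  have h3q : 3 ∣ q := hq ▸ dvd_pow_self 3 (by omega)
  have hcop : Nat.Coprime (3 ^ j) ((q ^ 3 + 1) * (q - 1)) := by
    refine Nat.Coprime.pow_left _ ((Nat.prime_three.coprime_iff_not_dvd).2 fun h => ?_)
    have hq1 : 1 ≤ q := by have := T.kit.q_ge; omega
    rcases Nat.prime_three.dvd_mul.1 h with h | h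
    · exact absurd ((Nat.dvd_add_right (dvd_pow h3q (by norm_num : 3 ≠ 0))).1 h) (by norm_num)
    · have : 3 ∣ q - (q - 1) := Nat.dvd_sub h3q h
      rw [show q - (q - 1) = 1 by omega] at this
      exact absurd this (by norm_num)
  refine Nat.dvd_antisymm ?_ ?_
  · rw [hj] at hdvd ⊢
    exact hcop.dvd_of_dvd_mul_right hdvd
  · rw [Q.card_eq_multiplicity, hq, ← pow_mul]
    exact pow_dvd_pow 3 ((Nat.prime_three.pow_dvd_iff_le_factorization Nat.card_pos.ne').1
      (by rw [T.card_eq, hq, ← pow_mul, mul_assoc]; exact dvd_mul_right _ _))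

include T in
theorem isPGroup_of_commute {a : G} (ha : orderOf a = 3) {O : Subgroup G}
    (hO : ∀ g ∈ O, Commute g a) (hodd : Odd (Nat.card O)) : IsPGroup 3 O := by
  refine IsPGroup.of_card (n := (Nat.card O).primeFactorsList.length)
    (Nat.eq_prime_pow_of_unique_prime_dvd Nat.card_pos.ne' fun {p} hp hd => ?_)
  by_contra hp3
  haveI := Fact.mk hp
  obtain ⟨y, hy⟩ := exists_prime_orderOf_dvd_card' (G := O) p hd
  have hp2 : p ≠ 2 := fun e => Nat.not_even_iff_odd.2 hodd (even_iff_two_dvd.2 (e ▸ hd))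
  exact T.no_three_mul hp2 hp3 ha (y := (y : G)) (by rw [Subgroup.orderOf_coe]; exact hy) (hO _ y.2).symm

variable (Q : Sylow 3 G) (hc : ∀ a ∈ (Q : Subgroup G), ∀ b ∈ (Q : Subgroup G), a * b = b * a)

include T hc in
theorem cent_of_involution {a : G} (ha : orderOf a = 3) (haQ : a ∈ (Q : Subgroup G)) {i : G}
    (hi : orderOf i = 2) (hai : Commute a i) :
    centralizer ({a} : Set G) ≤ normalizer ((Q : Subgroup G) : Set G) ∧
      ∀ g : G, Commute g a → Odd (orderOf g) → g ∈ (Q : Subgroup G) := by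
  obtain ⟨T', rfl⟩ := T.exists_setup hi
  obtain ⟨O, hOC, hON, hodd, hmem, -⟩ := T'.exists_oddPart ha hai
  have hO3 := isPGroup_of_commute T ha (O := O)
    (fun g hg => mem_centralizer_singleton_iff.1 (hOC hg)) hodd
  have hQO : (Q : Subgroup G) ≤ O := fun y hy => hmem y (hc y hy a haQ) (by
    obtain ⟨j, hj⟩ := Q.2 ⟨y, hy⟩
    obtain ⟨k, -, hk⟩ := (Nat.dvd_prime_pow Nat.prime_three).1
      (orderOf_dvd_of_pow_eq_one (show y ^ 3 ^ j = 1 from congrArg Subtype.val hj))
    rw [hk]; exact (by decide : Odd 3).pow)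
  have hOQ : O = (Q : Subgroup G) := Q.3 hO3 hQO
  exact ⟨hOQ ▸ hON, fun g hg ho => hOQ ▸ hmem g hg ho⟩

include T hc in
theorem cent_of_no_involution {a : G} (ha : orderOf a = 3) (haQ : a ∈ (Q : Subgroup G))
    (hno : ∀ i : G, orderOf i = 2 → ¬ Commute a i) {g : G} (hg : Commute g a) : g ∈ (Q : Subgroup G) := by
  set C := centralizer ({a} : Set G)
  have hodd : Odd (Nat.card C) := by
    rw [← Nat.not_even_iff_odd, even_iff_two_dvd]
    intro h
    haveI := Fact.mk Nat.prime_two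
    obtain ⟨i, hi⟩ := exists_prime_orderOf_dvd_card' (G := C) 2 h
    exact hno i (by rw [Subgroup.orderOf_coe]; exact hi) (Commute.symm (mem_centralizer_singleton_iff.1 i.2))
  have hC3 := isPGroup_of_commute T ha (O := C) (fun y hy => mem_centralizer_singleton_iff.1 hy) hodd
  have hQC : (Q : Subgroup G) ≤ C := fun y hy => mem_centralizer_singleton_iff.2 (hc y hy a haQ)
  rw [← Q.3 hC3 hQC]
  exact mem_centralizer_singleton_iff.2 hg.eq

include T hc in
theorem cent_of_inverted {a : G} (haQ : a ∈ (Q : Subgroup G)) (ha1 : a ≠ 1) {i : G} (hi : orderOf i = 2)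
    (hinv : i * a * i⁻¹ = a⁻¹) {g : G} (hg : Commute g a) : g ∈ (Q : Subgroup G) := by
  obtain ⟨j, hj⟩ := Q.2 ⟨a, haQ⟩
  obtain ⟨k, hk⟩ := exists_pow_three (show a ^ 3 ^ j = 1 from congrArg Subtype.val hj) ha1
  refine cent_of_no_involution T Q hc hk (pow_mem haQ k) (fun l hl hc' => ?_) (hg.pow_right k)
  refine T.not_inverted_three hk hl hc' (g := i) ?_
  rw [← conj_pow, hinv, inv_pow]

/-- The fixed points of `i` on `Q`. -/
def fixPart (i : G) : Subgroup G := (Q : Subgroup G) ⊓ centralizer ({i} : Set G)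

include T hc in
theorem card_fixPart_le {i : G} (hi : orderOf i = 2) : Nat.card (fixPart Q i) ≤ q := by
  have hq1 : 1 ≤ q := by have := T.kit.q_ge; omega
  rcases (fixPart Q i).bot_or_exists_ne_one with h | ⟨y, hy, hy1⟩
  · rw [h, card_bot]; exact hq1
  obtain ⟨j, hj⟩ := Q.2 ⟨y, hy.1⟩
  obtain ⟨k, hk⟩ := exists_pow_three (show y ^ 3 ^ j = 1 from congrArg Subtype.val hj) hy1
  obtain ⟨T', rfl⟩ := T.exists_setup hi
  have hyi : Commute (y ^ k) T'.t :=
    (show Commute y T'.t from mem_centralizer_singleton_iff.1 hy.2).pow_left k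
  have hle : fixPart Q T'.t ≤ centralizer ({T'.t} : Set G) ⊓ centralizer ({y ^ k} : Set G) := fun z hz =>
    ⟨hz.2, mem_centralizer_singleton_iff.2 (hc z hz.1 _ (pow_mem hy.1 k))⟩
  have h2 := card_dvd_of_le hle
  rw [T'.card_inf_three hk hyi] at h2
  haveI : Fact (Nat.Prime 3) := ⟨Nat.prime_three⟩
  obtain ⟨e₀, he₀⟩ := Q.2.exists_card_eq
  obtain ⟨e, -, he⟩ := (Nat.dvd_prime_pow Nat.prime_three).1
    (show Nat.card (fixPart Q T'.t) ∣ 3 ^ e₀ from he₀ ▸ card_dvd_of_le (inf_le_left : fixPart Q T'.t ≤ _))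
  have hcop : Nat.Coprime (Nat.card (fixPart Q T'.t)) 2 := by
    rw [he]; exact Nat.Coprime.pow_left _ (by norm_num)
  exact Nat.le_of_dvd (by omega) (hcop.dvd_of_dvd_mul_left h2)

/-- The elements of `Q` inverted by `i`. -/
def invPart (hc : ∀ a ∈ (Q : Subgroup G), ∀ b ∈ (Q : Subgroup G), a * b = b * a) (i : G) : Subgroup G where
  carrier := {a | a ∈ (Q : Subgroup G) ∧ i * a * i⁻¹ = a⁻¹}
  one_mem' := ⟨one_mem _, by simp⟩
  mul_mem' := fun {a b} ⟨ha, hai⟩ ⟨hb, hbi⟩ => ⟨mul_mem ha hb, by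
    rw [mul_inv_rev, hc _ (inv_mem hb) _ (inv_mem ha), ← hai, ← hbi]; group⟩
  inv_mem' := fun {a} ⟨ha, hai⟩ => ⟨inv_mem ha, by rw [← conj_inv, hai]⟩

theorem mem_invPart {i a : G} : a ∈ invPart Q hc i ↔ a ∈ (Q : Subgroup G) ∧ i * a * i⁻¹ = a⁻¹ := Iff.rfl

theorem exists_split {i : G} (hi : orderOf i = 2) (hiN : i ∈ normalizer ((Q : Subgroup G) : Set G))
    {a : G} (ha : a ∈ (Q : Subgroup G)) :
    ∃ u ∈ fixPart Q i, ∃ v ∈ invPart Q hc i, u * v = a := by
  have hi2 : i⁻¹ = i := inv_eq_of_mul_eq_one_right (Invol.invol_mul_self hi)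
  have hb : i * a * i⁻¹ ∈ (Q : Subgroup G) := (mem_normalizer_iff.1 hiN a).1 ha
  set b := i * a * i⁻¹ with hbdef
  have hib : i * b * i⁻¹ = a := by rw [hbdef, hi2]; simp only [mul_assoc, Invol.invol_mul_self hi, mul_one]
                                   rw [← mul_assoc, Invol.invol_mul_self hi, one_mul]
  haveI : Fact (Nat.Prime 3) := ⟨Nat.prime_three⟩
  have hodd : (Nat.card (Q : Subgroup G)).Coprime 2 := by
    obtain ⟨e, he⟩ := Q.2.exists_card_eq
    rw [he]; exact Nat.Coprime.pow_left _ (by norm_num)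
  -- a square root of `a * b` and of `a * b⁻¹`
  obtain ⟨r, hr⟩ : ∃ r, ∀ y ∈ (Q : Subgroup G), (y ^ r) ^ 2 = y := by
    obtain ⟨r, hr⟩ := Nat.exists_eq_add_of_le (Nat.card_pos (α := (Q : Subgroup G)))
    refine ⟨(Nat.card (Q : Subgroup G) + 1) / 2, fun y hy => ?_⟩
    have hev : 2 ∣ Nat.card (Q : Subgroup G) + 1 := by
      have : Odd (Nat.card (Q : Subgroup G)) := Nat.coprime_two_right.1 hodd
      obtain ⟨c, hc'⟩ := this
      omega
    rw [← pow_mul, Nat.div_mul_cancel hev, pow_succ,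
      show y ^ Nat.card (Q : Subgroup G) = 1 from
        congrArg Subtype.val (pow_card_eq_one' (x := (⟨y, hy⟩ : (Q : Subgroup G)))), one_mul]
  have hcab : Commute a b := hc a ha b hb
  refine ⟨(a * b) ^ r, ⟨pow_mem (mul_mem ha hb) r, ?_⟩, (a * b⁻¹) ^ r, ?_, ?_⟩
  · refine mem_centralizer_singleton_iff.2 (Commute.pow_left ?_ r).eq
    show a * b * i = i * (a * b)
    have h : i * (a * b) * i⁻¹ = a * b := by
      rw [← conj_mul, ← hbdef, hib, hcab.eq]
    rw [← mul_inv_eq_iff_eq_mul.1 h]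
  · refine (mem_invPart Q hc).2 ⟨pow_mem (mul_mem ha (inv_mem hb)) r, ?_⟩
    rw [← conj_pow, ← conj_mul, ← conj_inv, ← hbdef, hib, ← inv_pow, mul_inv_rev, inv_inv]
  · rw [← (Commute.mul_left ((Commute.refl a).mul_right hcab.inv_right)
      (hcab.symm.mul_right (Commute.refl b).inv_right)).mul_pow]
    have : a * b * (a * b⁻¹) = a ^ 2 := by
      rw [mul_assoc, ← mul_assoc b a, ← hcab.eq, mul_assoc a b, mul_inv_cancel, mul_one, sq]
    rw [this, pow_right_comm]
    exact hr a ha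

include hc in
theorem card_le_split {i : G} (hi : orderOf i = 2) (hiN : i ∈ normalizer ((Q : Subgroup G) : Set G)) :
    Nat.card (Q : Subgroup G) ≤ Nat.card (fixPart Q i) * Nat.card (invPart Q hc i) := by
  rw [← Nat.card_prod]
  refine Nat.card_le_card_of_surjective (fun p : fixPart Q i × invPart Q hc i =>
    (⟨(p.1 : G) * p.2, mul_mem p.1.2.1 p.2.2.1⟩ : (Q : Subgroup G))) fun a => ?_
  obtain ⟨u, hu, v, hv, h⟩ := exists_split Q hc hi hiN a.2
  exact ⟨(⟨u, hu⟩, ⟨v, hv⟩), Subtype.ext h⟩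

include T hc in
theorem invol_mul_mem {i j : G} (hi : orderOf i = 2) (hj : orderOf j = 2)
    (hiN : i ∈ normalizer ((Q : Subgroup G) : Set G)) (hjN : j ∈ normalizer ((Q : Subgroup G) : Set G)) :
    i * j ∈ (Q : Subgroup G) := by
  have hq : 27 ≤ q := T.kit.q_ge
  have hQ := card_sylow_three T Q
  have key : ∀ {l : G}, orderOf l = 2 → l ∈ normalizer ((Q : Subgroup G) : Set G) →
      q ^ 2 ≤ Nat.card (invPart Q hc l) := by
    intro l hl hlN
    have h := (card_le_split Q hc hl hlN).trans (Nat.mul_le_mul_right _ (card_fixPart_le T Q hc hl))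
    rw [hQ] at h
    exact Nat.le_of_mul_le_mul_left (by linarith [h]) (by omega : 0 < q)
  rcases (invPart Q hc i ⊓ invPart Q hc j).bot_or_exists_ne_one with h | ⟨a, ha, ha1⟩
  · exfalso
    have hinj : Function.Injective (fun p : invPart Q hc i × invPart Q hc j =>
        (⟨(p.1 : G) * p.2, mul_mem p.1.2.1 p.2.2.1⟩ : (Q : Subgroup G))) := fun p p' e => by
      have e' : (p.1 : G) * p.2 = p'.1 * p'.2 := congrArg Subtype.val e
      have h1 : (p'.1 : G)⁻¹ * p.1 = p'.2 * (p.2 : G)⁻¹ := by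
        calc (p'.1 : G)⁻¹ * p.1 = (p'.1 : G)⁻¹ * (p.1 * p.2) * (p.2 : G)⁻¹ := by group
          _ = _ := by rw [e']; group
      have hm1 : (p'.1 : G)⁻¹ * p.1 ∈ invPart Q hc i :=
        ((invPart Q hc i).mul_mem ((invPart Q hc i).inv_mem p'.1.2) p.1.2)
      have hm2 : (p'.1 : G)⁻¹ * p.1 ∈ invPart Q hc j :=
        h1 ▸ ((invPart Q hc j).mul_mem p'.2.2 ((invPart Q hc j).inv_mem p.2.2))
      have hm : (p'.1 : G)⁻¹ * p.1 ∈ invPart Q hc i ⊓ invPart Q hc j := ⟨hm1, hm2⟩
      rw [h, mem_bot] at hm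
      have e1 := inv_mul_eq_one.1 hm
      exact Prod.ext (Subtype.ext e1.symm) (Subtype.ext (by rw [e1] at e'; exact mul_left_cancel e'))
    have hle := Nat.card_le_card_of_injective _ hinj
    rw [Nat.card_prod, hQ] at hle
    have h4 := (Nat.mul_le_mul (key hi hiN) (key hj hjN)).trans hle
    have : q ^ 3 < q ^ 2 * q ^ 2 := by
      rw [← pow_add]; exact Nat.pow_lt_pow_right (by omega) (by norm_num)
    omega
  · refine cent_of_inverted T Q hc ha.1.1 ha1 hi ha.1.2 ?_
    have h1 : j * a * j⁻¹ = a⁻¹ := ha.2.2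
    have h2 : i * a⁻¹ * i⁻¹ = a := by rw [← conj_inv, ha.1.2, inv_inv]
    show i * j * a = a * (i * j)
    calc i * j * a = i * (j * a * j⁻¹) * i⁻¹ * (i * j) := by group
      _ = a * (i * j) := by rw [h1, h2]

include T hc in
theorem cent_ne_one {a : G} (haQ : a ∈ (Q : Subgroup G)) (ha1 : a ≠ 1) {t : G} (ht : orderOf t = 2)
    (htN : t ∈ normalizer ((Q : Subgroup G) : Set G)) {g : G} (hg : Commute g a) :
    g ∈ (Q : Subgroup G) ∨ t * g ∈ (Q : Subgroup G) := by
  obtain ⟨j, hj⟩ := Q.2 ⟨a, haQ⟩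
  obtain ⟨k, hk⟩ := exists_pow_three (show a ^ 3 ^ j = 1 from congrArg Subtype.val hj) ha1
  have hgk : Commute g (a ^ k) := hg.pow_right k
  by_cases hno : ∀ i : G, orderOf i = 2 → ¬ Commute (a ^ k) i
  · exact Or.inl (cent_of_no_involution T Q hc hk (pow_mem haQ k) hno hgk)
  push Not at hno
  obtain ⟨i, hi, hai⟩ := hno
  obtain ⟨hN, hodd⟩ := cent_of_involution T Q hc hk (pow_mem haQ k) hi hai
  rcases Nat.even_or_odd (orderOf g) with he | ho
  · right
    obtain ⟨c, hc'⟩ := even_iff_two_dvd.1 he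
    have hc0 : orderOf g ≠ 0 := (orderOf_pos g).ne'
    have hco : Odd c := Nat.not_even_iff_odd.1 fun h => T.not_four_dvd g (by
      obtain ⟨d, hd⟩ := h; exact ⟨d, by omega⟩)
    set i' := g ^ c with hi'
    have ho' : orderOf i' = 2 := by
      rw [hi', orderOf_pow' _ (by omega : c ≠ 0), hc', Nat.gcd_mul_left_left, Nat.mul_div_cancel _ (by omega)]
    have h1 : t * i' ∈ (Q : Subgroup G) :=
      invol_mul_mem T Q hc ht ho' htN (hN (mem_centralizer_singleton_iff.2 (hgk.pow_left c).eq))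
    have h2 : i' * g ∈ (Q : Subgroup G) := by
      refine hodd _ ((hgk.pow_left c).mul_left hgk) ?_
      obtain ⟨d, hd⟩ := hco
      rw [hi', ← pow_succ, show c + 1 = 2 * (d + 1) by omega]
      refine Odd.of_dvd_nat (n := c) ⟨d, hd⟩ (orderOf_dvd_of_pow_eq_one ?_)
      rw [← pow_mul, show 2 * (d + 1) * c = 2 * c * (d + 1) by ring, ← hc', pow_mul, pow_orderOf_eq_one, one_pow]
    have h3 := mul_mem h1 h2
    rwa [mul_assoc, ← mul_assoc i', Invol.invol_mul_self ho', one_mul] at h3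
  · exact Or.inl (hodd g hgk ho)

include T hc in
theorem ti_sylow_three {g : G} {a : G} (haQ : a ∈ (Q : Subgroup G)) (ha1 : a ≠ 1) {t : G}
    (ht : orderOf t = 2) (htN : t ∈ normalizer ((Q : Subgroup G) : Set G))
    (hga : g * a * g⁻¹ ∈ (Q : Subgroup G)) : g ∈ normalizer ((Q : Subgroup G) : Set G) := by
  haveI : Fact (Nat.Prime 3) := ⟨Nat.prime_three⟩
  refine inv_mem_iff.1 (mem_normalizer_fintype fun y hy => ?_)
  rw [inv_inv]
  have hcom : Commute (g⁻¹ * y * g) a := by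
    have h := hc y hy _ hga
    calc g⁻¹ * y * g * a = g⁻¹ * (y * (g * a * g⁻¹)) * g := by group
      _ = g⁻¹ * ((g * a * g⁻¹) * y) * g := by rw [h]
      _ = a * (g⁻¹ * y * g) := by group
  rcases cent_ne_one T Q hc haQ ha1 ht htN hcom with h | h
  · exact h
  · exfalso
    obtain ⟨j, hj⟩ := Q.2 ⟨y, hy⟩
    have hy3 : (g⁻¹ * y * g) ^ 3 ^ j = 1 := by
      have : y ^ 3 ^ j = 1 := congrArg Subtype.val hj
      rw [show g⁻¹ * y * g = g⁻¹ * y * g⁻¹⁻¹ by rw [inv_inv], conj_pow, this]; group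
    set z := g⁻¹ * y * g
    have hzN : z ∈ normalizer ((Q : Subgroup G) : Set G) := by
      have := mul_mem (inv_mem htN) (le_normalizer h)
      rwa [← mul_assoc, inv_mul_cancel, one_mul] at this
    have hord : orderOf (QuotientGroup.mk (s := (Q : Subgroup G).subgroupOf _) (⟨z, hzN⟩ : normalizer ((Q : Subgroup G) : Set G))) ∣ 3 ^ j := by
      refine orderOf_dvd_of_pow_eq_one ?_
      rw [← QuotientGroup.mk_pow, QuotientGroup.eq_one_iff]
      show z ^ 3 ^ j ∈ (Q : Subgroup G)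
      rw [hy3]; exact one_mem _
    have h2 : orderOf (QuotientGroup.mk (s := (Q : Subgroup G).subgroupOf _) (⟨z, hzN⟩ : normalizer ((Q : Subgroup G) : Set G))) ∣ 2 := by
      refine orderOf_dvd_of_pow_eq_one ?_
      rw [← QuotientGroup.mk_pow, QuotientGroup.eq_one_iff]
      show z ^ 2 ∈ (Q : Subgroup G)
      have h4 := (mem_normalizer_iff.1 htN (t * z)).1 h
      rw [← mul_assoc, Invol.invol_mul_self ht, one_mul] at h4
      rw [sq]
      have h5 := mul_mem h4 h
      rwa [inv_eq_of_mul_eq_one_right (Invol.invol_mul_self ht), mul_assoc, ← mul_assoc t t,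
        Invol.invol_mul_self ht, one_mul] at h5
    have h1 := Nat.eq_one_of_dvd_coprimes (Nat.Coprime.pow_left j (by norm_num)) hord h2
    rw [orderOf_eq_one_iff, QuotientGroup.eq_one_iff] at h1
    have htQ : t ∈ (Q : Subgroup G) := by
      have := mul_mem h (inv_mem (show z ∈ (Q : Subgroup G) from h1))
      rwa [mul_inv_cancel_right] at this
    have hd := Subgroup.orderOf_dvd_natCard (Q : Subgroup G) htQ
    obtain ⟨e, he⟩ := Q.2.exists_card_eq
    rw [ht, he] at hd
    exact absurd (Nat.prime_two.dvd_of_dvd_pow hd) (by norm_num)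

include T in
/-- A simple group of Ree type has nonabelian Sylow `3`-subgroups. -/
theorem not_comm_sylow_three [IsSimpleGroup G]
    (hab : ∀ P : Sylow 3 G, ∀ a ∈ (P : Subgroup G), ∀ b ∈ (P : Subgroup G), a * b = b * a) : False := by
  classical
  haveI : Fact (Nat.Prime 3) := ⟨Nat.prime_three⟩
  have hq : 27 ≤ q := T.kit.q_ge
  set t := T.t
  have ht : orderOf t = 2 := T.order_t
  obtain ⟨x, hx⟩ := exists_prime_orderOf_dvd_card' (G := centralizer ({t} : Set G)) 3 (by
    rw [T.card_C]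
    obtain ⟨k, hk, hqk⟩ := T.kit.q_pow
    exact (dvd_mul_of_dvd_left (dvd_mul_of_dvd_left (hqk ▸ dvd_pow_self 3 (by omega)) n) _).mul_left 2)
  have hx3 : orderOf (x : G) = 3 := by rw [Subgroup.orderOf_coe]; exact hx
  have hxt : Commute (x : G) t := mem_centralizer_singleton_iff.1 x.2
  obtain ⟨Q, hQ⟩ := (IsPGroup.of_card (p := 3) (n := 1) (G := zpowers (x : G))
    (by rw [Nat.card_zpowers, hx3, pow_one])).exists_le_sylow
  have hxQ : (x : G) ∈ (Q : Subgroup G) := hQ (mem_zpowers _)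
  have hc := hab Q
  have hx1 : (x : G) ≠ 1 := fun h => by rw [h, orderOf_one] at hx3; norm_num at hx3
  set N := normalizer ((Q : Subgroup G) : Set G) with hNdef
  have htN : t ∈ N := (cent_of_involution T Q hc hx3 hxQ ht hxt).1 (mem_centralizer_singleton_iff.2 hxt.eq.symm)
  set U := fixPart Q t with hU
  set I := invPart Q hc t with hI
  have hxU : (x : G) ∈ U := ⟨hxQ, mem_centralizer_singleton_iff.2 hxt.eq⟩
  have hU' : ∀ g : N, ∀ u ∈ U, (g : G) * u * (g : G)⁻¹ ∈ U := by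
    intro g u hu
    have huQ := (mem_normalizer_iff.1 g.2 u).1 hu.1
    refine ⟨huQ, mem_centralizer_singleton_iff.2 ?_⟩
    have hconj : orderOf ((g : G) * t * (g : G)⁻¹) = 2 := Invol.invol_conj ht _
    have hm := invol_mul_mem T Q hc ht hconj htN (mul_mem (mul_mem g.2 htN) (inv_mem g.2))
    have h1 : Commute ((g : G) * t * (g : G)⁻¹) ((g : G) * u * (g : G)⁻¹) :=
      (show Commute t u from (mem_centralizer_singleton_iff.1 hu.2).symm).map (MulAut.conj (g : G)).toMonoidHom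
    have h2 : Commute (t * ((g : G) * t * (g : G)⁻¹)) ((g : G) * u * (g : G)⁻¹) := hc _ hm _ huQ
    have h3 := h2.mul_left h1.inv_left
    rw [mul_inv_cancel_right] at h3
    exact h3.eq.symm
  have hQc : Nat.card (Q : Subgroup G) = q ^ 3 := card_sylow_three T Q
  have hPN : Nat.card (nPart (Q : Subgroup G)) = q ^ 3 := by
    rw [nPart, Nat.card_congr (subgroupOfEquivOfLe le_normalizer).toEquiv, hQc]
  haveI hcomm : IsMulCommutative (nPart (Q : Subgroup G)) := isMulCommutative_iff.2 fun a b =>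
    Subtype.ext (Subtype.ext (hc _ a.2 _ b.2))
  haveI : Finite (nPart (Q : Subgroup G) →* ℂˣ) :=
    Finite.of_equiv _ (linearCharEquiv (G := nPart (Q : Subgroup G))).symm
  -- characters trivial on `I` fail to be regular, the others are regular
  have hI1 : ∀ (μ : nPart (Q : Subgroup G) →* ℂˣ) (g : ↥(normalizer ((Q : Subgroup G) : Set G))),
      μ ≠ 1 → dualAct (Q : Subgroup G) g μ = μ → g ∈ nPart (Q : Subgroup G) ∨
        (t * (g : G) ∈ (Q : Subgroup G) ∧
          ∀ a : nPart (Q : Subgroup G), ((a : ↥(normalizer ((Q : Subgroup G) : Set G))) : G) ∈ I → μ a = 1) := by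
    intro μ g hμ hfix
    by_cases hf : ∀ a ∈ (Q : Subgroup G), Commute (g : G) a → a = 1
    · exfalso
      let φ : nPart (Q : Subgroup G) →* nPart (Q : Subgroup G) :=
        { toFun := fun a => MulAut.conjNormal g⁻¹ a * a⁻¹
          map_one' := by simp
          map_mul' := fun a b => by
            rw [map_mul, mul_inv_rev, mul_assoc, mul_assoc, ← mul_assoc _ b⁻¹ a⁻¹]
            rw [isMulCommutative_iff.1 hcomm (MulAut.conjNormal g⁻¹ b * b⁻¹) a⁻¹] }
      have hinj : Function.Injective φ := (injective_iff_map_eq_one φ).2 fun a ha => by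
        have h1 : MulAut.conjNormal g⁻¹ a = a := mul_inv_eq_one.1 ha
        have h2 : (g : G)⁻¹ * ((a : N) : G) * ((g : G)⁻¹)⁻¹ = ((a : N) : G) :=
          congrArg (fun z : nPart (Q : Subgroup G) => ((z : N) : G)) h1
        refine Subtype.ext (Subtype.ext (hf _ a.2 ?_))
        rw [inv_inv, mul_assoc, inv_mul_eq_iff_eq_mul] at h2
        exact h2.symm
      refine hμ (MonoidHom.ext fun a => ?_)
      obtain ⟨b, hb⟩ := (Finite.injective_iff_surjective.1 hinj) a
      rw [← hb]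
      show μ (MulAut.conjNormal g⁻¹ b * b⁻¹) = 1
      rw [map_mul μ, map_inv μ, show μ (MulAut.conjNormal g⁻¹ b) = μ b from DFunLike.congr_fun hfix b,
        mul_inv_cancel]
    · push Not at hf
      obtain ⟨a, ha, hga, ha1⟩ := hf
      rcases cent_ne_one T Q hc ha ha1 ht htN hga with h | h
      · exact Or.inl h
      refine Or.inr ⟨h, fun b hb => ?_⟩
      -- `g` inverts `b`
      have hb' : MulAut.conjNormal g⁻¹ b = b⁻¹ := by
        refine Subtype.ext (Subtype.ext ?_)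
        show (g : G)⁻¹ * ((b : N) : G) * ((g : G)⁻¹)⁻¹ = ((b : N) : G)⁻¹
        have hbQ : ((b : N) : G) ∈ (Q : Subgroup G) := hb.1
        have h4 : t⁻¹ * ((b : N) : G) * t = ((b : N) : G)⁻¹ := by
          rw [inv_eq_of_mul_eq_one_right (Invol.invol_mul_self ht)]
          have := hb.2
          rwa [inv_eq_of_mul_eq_one_right (Invol.invol_mul_self ht)] at this
        have hbI : t * ((b : N) : G) * t⁻¹ = ((b : N) : G)⁻¹ := hb.2
        calc (g : G)⁻¹ * ((b : N) : G) * ((g : G)⁻¹)⁻¹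
            = (t * g)⁻¹ * (t * ((b : N) : G) * t⁻¹) * (t * g) := by group
          _ = (t * g)⁻¹ * (((b : N) : G)⁻¹ * (t * g)) := by rw [hbI, mul_assoc]
          _ = ((b : N) : G)⁻¹ := by rw [hc _ (inv_mem hbQ) _ h, inv_mul_cancel_left]
      have h5 : μ b = (μ b)⁻¹ := by
        conv_lhs => rw [← hfix]
        rw [dualAct_apply, hb', map_inv]
      have h6 : μ b ^ 2 = 1 := by rw [sq]; nth_rewrite 2 [h5]; rw [mul_inv_cancel]
      have h7 : μ b ^ q ^ 3 = 1 := by rw [← map_pow, ← hPN, pow_card_eq_one', map_one]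
      have h8 : orderOf (μ b) = 1 := Nat.eq_one_of_dvd_coprimes
        ((Nat.Coprime.pow_right 3 (by
          obtain ⟨k, hk, hqk⟩ := T.kit.q_pow
          rw [hqk]; exact Nat.Coprime.pow_right _ (by norm_num)) : Nat.Coprime 2 (q ^ 3)))
        (orderOf_dvd_of_pow_eq_one h6) (orderOf_dvd_of_pow_eq_one h7)
      exact orderOf_eq_one_iff.1 h8
  have hreg : ∀ μ : nPart (Q : Subgroup G) →* ℂˣ, μ ≠ 1 →
      (¬ ∀ a : nPart (Q : Subgroup G), ((a : ↥(normalizer ((Q : Subgroup G) : Set G))) : G) ∈ I → μ a = 1) →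
      RegDual (Q : Subgroup G) μ := fun μ h1 h2 g hg => (hI1 μ g h1 hg).resolve_right fun h => h2 h.2
  have hstab : ∀ ν : nPart (Q : Subgroup G) →* ℂˣ, ν ≠ 1 →
      Nat.card {g : ↥(normalizer ((Q : Subgroup G) : Set G)) // dualAct (Q : Subgroup G) g ν = ν} ≤
        2 * Nat.card (nPart (Q : Subgroup G)) := by
    intro ν hν
    let t' : ↥(normalizer ((Q : Subgroup G) : Set G)) := ⟨t, htN⟩
    rw [two_mul, ← Nat.card_sum]
    refine Nat.card_le_card_of_injective (fun g => if h : (g : ↥(normalizer ((Q : Subgroup G) : Set G))) ∈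
      nPart (Q : Subgroup G) then Sum.inl ⟨_, h⟩ else
        Sum.inr ⟨t' * g, ((hI1 ν g hν g.2).resolve_left h).1⟩) fun g g' e => ?_
    dsimp only at e
    split_ifs at e with h h'
    · injection e with e'
      exact Subtype.ext (Subtype.mk.inj e')
    · exact Subtype.ext (mul_left_cancel (congrArg Subtype.val (Sum.inr.inj e)))
  -- a regular character trivial on `U`
  set UN := U.subgroupOf (normalizer ((Q : Subgroup G) : Set G)) with hUN
  set UP := UN.subgroupOf (nPart (Q : Subgroup G)) with hUP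
  letI : CommGroup (nPart (Q : Subgroup G)) :=
    { (inferInstance : Group (nPart (Q : Subgroup G))) with mul_comm := isMulCommutative_iff.1 hcomm }
  have hUcard : Nat.card UP ≤ q := by
    refine le_trans (Nat.card_le_card_of_injective (fun a : UP => (⟨((a : nPart (Q : Subgroup G)) : N), a.2⟩ : U))
      fun a b e => ?_) (card_fixPart_le T Q hc ht)
    exact Subtype.ext (Subtype.ext (Subtype.ext (congrArg (fun z : U => (z : G)) e)))
  have hUne : UP ≠ ⊤ := fun e => by
    have h := hUcard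
    rw [e, card_top, hPN] at h
    have : q ^ 1 < q ^ 3 := Nat.pow_lt_pow_right (by omega) (by norm_num)
    rw [pow_one] at this
    omega
  obtain ⟨μ₀, hμU, hμ1⟩ : ∃ μ₀ : nPart (Q : Subgroup G) →* ℂˣ, (∀ a ∈ UP, μ₀ a = 1) ∧ μ₀ ≠ 1 := by
    obtain ⟨y, -, hy⟩ := SetLike.exists_of_lt (lt_top_iff_ne_top.2 hUne)
    have hy' : (QuotientGroup.mk y : nPart (Q : Subgroup G) ⧸ UP) ≠ 1 := fun h => hy ((QuotientGroup.eq_one_iff y).1 h)
    obtain ⟨φ, hφ⟩ := CommGroup.exists_apply_ne_one_of_hasEnoughRootsOfUnity _ ℂ hy'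
    exact ⟨φ.comp (QuotientGroup.mk' UP), fun a ha => by simp [(QuotientGroup.eq_one_iff a).2 ha],
      fun e => hφ (by simpa using DFunLike.congr_fun e y)⟩
  have hsplit : ∀ μ : nPart (Q : Subgroup G) →* ℂˣ, (∀ a ∈ UP, μ a = 1) →
      (∀ a : nPart (Q : Subgroup G), ((a : ↥(normalizer ((Q : Subgroup G) : Set G))) : G) ∈ I → μ a = 1) → μ = 1 := by
    intro μ h1 h2
    refine MonoidHom.ext fun a => ?_
    obtain ⟨u, hu, v, hv, huv⟩ := exists_split Q hc ht htN (show ((a : N) : G) ∈ (Q : Subgroup G) from a.2)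
    have : a = (⟨⟨u, le_normalizer hu.1⟩, hu.1⟩ : nPart (Q : Subgroup G)) * ⟨⟨v, le_normalizer hv.1⟩, hv.1⟩ :=
      Subtype.ext (Subtype.ext huv.symm)
    rw [this, map_mul, h1 _ hu, h2 _ hv, one_mul]; rfl
  have hμreg : RegDual (Q : Subgroup G) μ₀ := hreg μ₀ hμ1 fun h => hμ1 (hsplit μ₀ hμU h)
  -- counting
  set R := Nat.card {μ : nPart (Q : Subgroup G) →* ℂˣ // RegDual (Q : Subgroup G) μ} with hR
  have hR' : q ^ 3 ≤ R + q := by
    have hdual : Nat.card (nPart (Q : Subgroup G) →* ℂˣ) = q ^ 3 := by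
      rw [CommGroup.card_monoidHom_of_hasEnoughRootsOfUnity, hPN]
    have hsum := Nat.card_congr (Equiv.sumCompl (fun μ : nPart (Q : Subgroup G) →* ℂˣ => RegDual (Q : Subgroup G) μ))
    rw [Nat.card_sum, hdual] at hsum
    have hns : Nat.card {μ : nPart (Q : Subgroup G) →* ℂˣ // ¬ RegDual (Q : Subgroup G) μ} ≤ q := by
      refine le_trans (Nat.card_le_card_of_injective (fun μ => μ.1.comp UP.subtype) fun μ μ' e => ?_)
        (le_of_eq_of_le (CommGroup.card_monoidHom_of_hasEnoughRootsOfUnity UP ℂ) hUcard)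
      have hIμ : ∀ ν : {μ : nPart (Q : Subgroup G) →* ℂˣ // ¬ RegDual (Q : Subgroup G) μ},
          ∀ a : nPart (Q : Subgroup G), ((a : ↥(normalizer ((Q : Subgroup G) : Set G))) : G) ∈ I → ν.1 a = 1 := by
        intro ν a ha
        by_cases h1 : ν.1 = 1
        · rw [h1]; rfl
        · by_contra hne
          exact ν.2 (hreg ν.1 h1 fun h => hne (h a ha))
      refine Subtype.ext (div_eq_one.1 (hsplit (μ.1 / μ'.1) (fun a ha => ?_) fun a ha => ?_))
      · have := DFunLike.congr_fun e (⟨a, ha⟩ : UP)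
        simp only [MonoidHom.comp_apply, Subgroup.coe_subtype] at this
        rw [MonoidHom.div_apply, this, div_self']
      · rw [MonoidHom.div_apply, hIμ μ a ha, hIμ μ' a ha, div_one]
    omega
  have hw : (nPart (Q : Subgroup G)).index ≤ 2 * (q - 1) := by
    rw [Subgroup.index_eq_card]
    haveI := Fintype.ofFinite (↥(normalizer ((Q : Subgroup G) : Set G)) ⧸ nPart (Q : Subgroup G))
    let g : ↥(normalizer ((Q : Subgroup G) : Set G)) ⧸ nPart (Q : Subgroup G) → G :=
      fun z => (z.out : G) * x * (z.out : G)⁻¹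
    rw [Nat.card_eq_fintype_card, ← Finset.card_univ]
    refine (Finset.card_le_mul_card_image Finset.univ 2 (f := g) fun b hb => ?_).trans
      (Nat.mul_le_mul_left 2 ?_)
    · obtain ⟨z₀, -, rfl⟩ := Finset.mem_image.1 hb
      refine le_trans (Finset.card_le_card (t := {z₀, z₀ * QuotientGroup.mk (⟨t, htN⟩ : N)}) fun z hz => ?_)
        Finset.card_le_two
      have hz' : g z = g z₀ := (Finset.mem_filter.1 hz).2
      have hcom : Commute ((z₀.out : G)⁻¹ * z.out) (x : G) := by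
        show (z₀.out : G)⁻¹ * z.out * x = x * ((z₀.out : G)⁻¹ * z.out)
        calc (z₀.out : G)⁻¹ * z.out * x = (z₀.out : G)⁻¹ * g z * z.out := by simp only [g]; group
          _ = x * ((z₀.out : G)⁻¹ * z.out) := by rw [hz']; simp only [g]; group
      rcases cent_ne_one T Q hc hxQ hx1 ht htN hcom with h | h
      · refine Finset.mem_insert.2 (Or.inl ?_)
        have h' : (z₀.out)⁻¹ * z.out ∈ nPart (Q : Subgroup G) := h
        exact (QuotientGroup.out_eq' z).symm.trans ((QuotientGroup.eq.2 h').symm.trans (QuotientGroup.out_eq' z₀))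
      · refine Finset.mem_insert_of_mem (Finset.mem_singleton.2 ?_)
        rw [← QuotientGroup.out_eq' z, ← QuotientGroup.out_eq' z₀, ← QuotientGroup.mk_mul, eq_comm,
          QuotientGroup.eq]
        show ((z₀.out : G) * t)⁻¹ * (z.out : G) ∈ (Q : Subgroup G)
        rwa [mul_inv_rev, inv_eq_of_mul_eq_one_right (Invol.invol_mul_self ht), mul_assoc]
    · have hUs : Finset.univ.image g ⊆ (Finset.univ.filter fun y => y ∈ U).erase 1 := by
        intro b hb
        obtain ⟨z, -, rfl⟩ := Finset.mem_image.1 hb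
        exact Finset.mem_erase.2 ⟨fun h => hx1 (conj_eq_one_iff.1 h),
          Finset.mem_filter.2 ⟨Finset.mem_univ _, hU' z.out _ hxU⟩⟩
      refine (Finset.card_le_card hUs).trans ?_
      rw [Finset.card_erase_of_mem (Finset.mem_filter.2 ⟨Finset.mem_univ _, one_mem _⟩)]
      refine Nat.sub_le_sub_right ?_ 1
      rw [← Fintype.card_subtype, ← Nat.card_eq_fintype_card]
      exact card_fixPart_le T Q hc ht
  have hG : Nat.card G ≤ 2 * q ^ 7 := by
    rw [T.card_eq]
    calc q ^ 3 * (q ^ 3 + 1) * (q - 1) ≤ q ^ 3 * (2 * q ^ 3) * q := by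
          refine Nat.mul_le_mul (Nat.mul_le_mul_left _ ?_) (Nat.sub_le _ _)
          have : 1 ≤ q ^ 3 := Nat.one_le_pow _ _ (by omega)
          omega
      _ = 2 * q ^ 7 := by ring
  have hbig : ∀ M : ℕ, R ≤ M * (nPart (Q : Subgroup G)).index →
      4 ≤ M - 1 ∧ Nat.card G < (M - 1) * (R - (nPart (Q : Subgroup G)).index) ^ 2 := by
    intro M hM
    have hq2 : q ^ 3 = q * q ^ 2 := by ring
    have hsq : 27 * q ≤ q ^ 2 := by rw [sq]; exact Nat.mul_le_mul_right q hq
    have hcu : 27 * q ^ 2 ≤ q ^ 3 := by rw [hq2]; exact Nat.mul_le_mul_right _ hq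
    have hMw := hM.trans (Nat.mul_le_mul_left M hw)
    have hM2 : q ^ 2 ≤ 3 * (M - 1) := by
      by_contra! hlt
      have h1 : q * (3 * M) ≤ q * (q ^ 2 + 3) := Nat.mul_le_mul_left q (by omega)
      have h2 : M * (2 * (q - 1)) ≤ 2 * (M * q) := by
        rw [mul_comm M (2 * (q - 1)), mul_assoc]; exact Nat.mul_le_mul_left 2 ((Nat.mul_le_mul_right M (Nat.sub_le q 1)).trans (by rw [mul_comm]))
      have h3 : q * (3 * M) = 3 * (M * q) := by ring
      have h4 : q * (q ^ 2 + 3) = q ^ 3 + 3 * q := by ring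
      omega
    refine ⟨by omega, ?_⟩
    have hS : q ^ 3 ≤ 2 * (R - (nPart (Q : Subgroup G)).index) := by omega
    have h5 : q ^ 8 ≤ 12 * ((M - 1) * (R - (nPart (Q : Subgroup G)).index) ^ 2) := by
      calc q ^ 8 = q ^ 2 * (q ^ 3) ^ 2 := by ring
        _ ≤ (3 * (M - 1)) * (2 * (R - (nPart (Q : Subgroup G)).index)) ^ 2 :=
          Nat.mul_le_mul hM2 (Nat.pow_le_pow_left hS 2)
        _ = 12 * ((M - 1) * (R - (nPart (Q : Subgroup G)).index) ^ 2) := by ring
    have h6 : 24 * q ^ 7 < q ^ 8 := by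
      rw [show q ^ 8 = q * q ^ 7 by ring]
      exact Nat.mul_lt_mul_of_pos_right (by omega) (pow_pos (by omega) _)
    omega
  obtain ⟨χ, hχU, a, ha, hχa⟩ := exists_char_const_of_abelian_TI (Q : Subgroup G) hc
    (fun g hg y hy hy' => by_contra fun hy1 => hg (ti_sylow_three T Q hc hy hy1 ht htN hy'))
    U inf_le_left hstab μ₀ hμreg hμ1
    (fun y g hy => by
      rw [dualAct_apply]
      refine hμU _ ?_
      show (g : G)⁻¹ * ((y : N) : G) * ((g : G)⁻¹)⁻¹ ∈ U
      exact hU' g⁻¹ _ hy)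
    hbig
  obtain ⟨χ, d, ρ, hρ, rfl⟩ := χ
  have hker : ∀ g : G, ρ.character g = ρ.character 1 ↔ g ∈ MonoidHom.ker ρ := fun g => by
    rw [MonoidHom.mem_ker, Representation.char_one, char_eq_degree_iff ρ g]
    rfl
  rcases (inferInstance : (MonoidHom.ker ρ).Normal).eq_bot_or_eq_top with h | h
  · have := (hker x).1 (hχU x hxU)
    rw [h, mem_bot] at this
    exact hx1 this
  · exact hχa ((hker a).2 (h ▸ mem_top a))

end CfsgLib.Walter.Consumers
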