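import Cfsg.Agent.Lib.Walter.Consumers.ReeType
import Cfsg.Agent.Lib.Walter.Consumers.ReeSylow

/-!
# Simple groups all of whose Sylow subgroups are abelian
-/

set_option autoImplicit false
set_option linter.style.haveILetI false

namespace CfsgLib.Walter.Consumers

open Subgroup

universe u

theorem S2554_of_classified (hC : Classified.{u}) {G : Type u} [Group G] [Finite G]
    [IsSimpleGroup G] (hna : ¬ IsMulCommutative G)
    (hA : ∀ (p : ℕ), p.Prime → ∀ (P : Sylow p G), IsMulCommutative ↥P) :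
    Cfsg.Spor.IsoJ1 G ∨
      ∃ (F : Type) (_ : Field F) (_ : Fintype F), 3 < Fintype.card F ∧
        (Fintype.card F % 8 = 0 ∨ Fintype.card F % 8 = 3 ∨ Fintype.card F % 8 = 5) ∧
        Nonempty (G ≃* Matrix.ProjectiveSpecialLinearGroup (Fin 2) F) := by
  have hab : AbTwo G := fun S a b => isMulCommutative_iff.1 (hA 2 Nat.prime_two S) a b
  rcases hC G inferInstance hna hab with ⟨F, iF, iF', ⟨n, hn, hF⟩ | ⟨h5, hF⟩, ⟨e⟩⟩ | hr
  · refine Or.inr ?_
    rcases Nat.lt_or_ge n 3 with h3 | h3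
    · obtain rfl : n = 2 := by omega
      haveI : Fact (Nat.Prime 5) := ⟨by norm_num⟩
      obtain ⟨e'⟩ := iso_psl_five (show Fintype.card F = 4 from hF) e
      exact ⟨ZMod 5, inferInstance, inferInstance, by rw [ZMod.card]; norm_num,
        Or.inr (Or.inr (by rw [ZMod.card])), ⟨e'⟩⟩
    · have h8 : 8 ∣ Fintype.card F := hF ▸ pow_dvd_pow 2 h3
      have : 0 < Fintype.card F := Fintype.card_pos
      exact ⟨F, iF, iF', by omega, Or.inl (Nat.mod_eq_zero_of_dvd h8), ⟨e⟩⟩
  · exact Or.inr ⟨F, iF, iF', by omega, Or.inr hF, ⟨e⟩⟩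
  · refine (reeType_cases hab hr).imp_right fun h => False.elim ?_
    obtain ⟨k, q, m, n, ⟨⟨T, -⟩⟩⟩ := CfsgLib.ReeType.exists_setup_of_isReeType h
    haveI := Fintype.ofFinite G
    exact not_comm_sylow_three T fun P a ha b hb =>
      congrArg Subtype.val (isMulCommutative_iff.1 (hA 3 Nat.prime_three P) ⟨a, ha⟩ ⟨b, hb⟩)

end CfsgLib.Walter.Consumers
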