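import Cfsg.Agent.Lib.Walter.Consumers.AllAbelian
import Cfsg.Agent.Lib.AutPSL.FixSylow
import Cfsg.Agent.Lib.Fusion.AbelianSylowAut
import Cfsg.Agent.S2065

/-!
# Automorphisms of simple groups all of whose Sylow subgroups are abelian
-/

set_option autoImplicit false
set_option linter.style.haveILetI false

namespace CfsgLib.Walter.Consumers

open Subgroup

universe u

theorem pPrimeCore_two_eq_bot {G : Type u} [Group G] [Finite G] [IsSimpleGroup G]
    (h2 : 2 ∣ Nat.card G) : Cfsg.pPrimeCore 2 G = ⊥ := by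
  rw [eq_bot_iff, Cfsg.pPrimeCore, sSup_le_iff]
  rintro N ⟨hN, hco⟩
  rcases IsSimpleGroup.eq_bot_or_eq_top_of_normal N hN with rfl | rfl
  · exact le_rfl
  · rw [Subgroup.card_top] at hco
    exact absurd (Nat.Coprime.eq_one_of_dvd hco.symm h2) (by norm_num)

theorem center_eq_bot_of_simple {G : Type u} [Group G] [IsSimpleGroup G]
    (hna : ¬ IsMulCommutative G) : Subgroup.center G = ⊥ :=
  (IsSimpleGroup.eq_bot_or_eq_top_of_normal _ inferInstance).resolve_right fun h =>
    hna (isMulCommutative_iff.2 fun a b =>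
      (Subgroup.mem_center_iff.1 (h ▸ Subgroup.mem_top b : b ∈ Subgroup.center G) a))

theorem S2555_of_classified (hC : Classified.{u}) {G : Type u} [Group G] [Finite G]
    [IsSimpleGroup G] (hna : ¬ IsMulCommutative G)
    (hA : ∀ (p : ℕ), p.Prime → ∀ (P : Sylow p G), IsMulCommutative ↥P)
    (r : ℕ) [Fact r.Prime] (hr : r ∣ Nat.card G) (α : G ≃* G) (k : ℕ) (hα : orderOf α = r ^ k)
    (R : Sylow r G) (hR : ∀ x ∈ (R : Subgroup G), α x = x) :
    ∃ g : G, ∀ x : G, α x = g * x * g⁻¹ := by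
  by_cases hr2 : r = 2
  · subst hr2
    exact CfsgLib.Fusion.isInner_of_fixes_abelian_sylow (center_eq_bot_of_simple hna)
      (pPrimeCore_two_eq_bot hr) R (hA 2 Nat.prime_two R) α hα hR
  rcases S2554_of_classified hC hna hA with ⟨⟨e⟩⟩ | ⟨F, iF, iF', -, -, ⟨e⟩⟩
  · obtain ⟨g, hg⟩ : MulAut.congr e α ∈ Cfsg.Inn ↥Cfsg.Spor.J1 := by
      have hs := (Nat.card_eq_one_iff_unique.1 Cfsg.Agent.S2065.result).1
      exact (QuotientGroup.eq_one_iff _).1 (hs.elim (MulAut.congr e α : Cfsg.Out _) 1)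
    refine ⟨e.symm g, fun x => e.injective ?_⟩
    have := DFunLike.congr_fun hg (e x)
    simp at this
    simp [this]
  · obtain ⟨g, hg⟩ : MulAut.congr e α ∈ Cfsg.Inn _ := by
      refine CfsgLib.AutPSL.FixSylow.mem_inn hr2 (Nat.card_congr e.toEquiv ▸ hr) (MulAut.congr e α)
        (k := k) ?_ (R.mapSurjective (f := e.toMonoidHom) e.surjective) ?_
      · rw [← map_pow, ← hα, pow_orderOf_eq_one, map_one]
      · intro x hx
        obtain ⟨y, hy, rfl⟩ := Subgroup.mem_map.1 hx
        show e (α (e.symm (e y))) = e y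
        rw [e.symm_apply_apply, hR y hy]
    refine ⟨e.symm g, fun x => e.injective ?_⟩
    have := DFunLike.congr_fun hg (e x)
    simp at this
    simp [this]

end CfsgLib.Walter.Consumers
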