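import Cfsg.Agent.Lib.Walter.Consumers.Defs
import Cfsg.Agent.Lib.Classical.ExcIso
import Cfsg.Agent.S1245

/-!
# Simple groups with central Sylow `2`-intersections: abelian Sylow `2`-subgroups
-/

set_option autoImplicit false
set_option linter.style.haveILetI false

namespace CfsgLib.Walter.Consumers

open Subgroup

universe u

/-- The second alternative of S3182. -/
def CentralInterAbelian (G : Type u) [Group G] : Prop :=
  (∀ S : Sylow 2 G, IsMulCommutative ↥(S : Subgroup G)) ∧
    ∃ t : G, orderOf t = 2 ∧ IsCoatom (centralizer ({t} : Set G)) ∧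
      ∃ E : Subgroup G, Cfsg.IsInternalDirectProduct (zpowers t) E (centralizer ({t} : Set G)) ∧
        ∃ (F : Type) (_ : Field F) (_ : Fintype F), Odd (Fintype.card F) ∧ 3 < Fintype.card F ∧
          ∃ N : Subgroup ↥E, N.Normal ∧ Nonempty (↥N ≃* Matrix.ProjectiveSpecialLinearGroup (Fin 2) F) ∧
            centralizer (N : Set ↥E) = ⊥

theorem two_elements : ∀ a b : Multiplicative (ZMod 2), a ≠ 1 → b ≠ 1 → a * b = 1 := by decide

/-- Groups of Janko–Ree form are of the second kind. -/
theorem centralInterAbelian_of_reeForm {G : Type u} [Group G] [Finite G] [IsSimpleGroup G]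
    (hna : ¬ IsMulCommutative G) (hab : AbTwo G) (hr : ReeForm G) : CentralInterAbelian G := by
  classical
  obtain ⟨-, t, ht, F, iF, iF', hF, ⟨e⟩⟩ := hr
  have hodd : Odd (Fintype.card F) ∧ 3 < Fintype.card F := by
    rcases hF with h | ⟨m, hm, h⟩
    · rw [h]; exact ⟨by decide, by norm_num⟩
    · rw [h]
      refine ⟨(show Odd 3 by decide).pow, lt_of_lt_of_le (show 3 < 3 ^ 2 by norm_num) ?_⟩
      exact Nat.pow_le_pow_right (by norm_num) (by omega)
  refine ⟨fun S => isMulCommutative_iff.2 (hab S), t, ht, ?_⟩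
  set C := centralizer ({t} : Set G)
  let i : Matrix.ProjectiveSpecialLinearGroup (Fin 2) F →* G :=
    C.subtype.comp (e.symm.toMonoidHom.comp (MonoidHom.inr _ _))
  have hi : Function.Injective i := C.subtype_injective.comp
    (e.symm.injective.comp fun a b h => congrArg Prod.snd h)
  set E : Subgroup G := i.range
  have htC : t ∈ C := mem_centralizer_singleton_iff.2 rfl
  have hcen : (e ⟨t, htC⟩).2 = 1 := by
    have h : (e ⟨t, htC⟩).2 ∈ center (Matrix.ProjectiveSpecialLinearGroup (Fin 2) F) := by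
      refine mem_center_iff.2 fun y => ?_
      have h1 : e.symm (1, y) * ⟨t, htC⟩ = ⟨t, htC⟩ * e.symm (1, y) :=
        Subtype.ext (mem_centralizer_singleton_iff.1 (e.symm (1, y)).2)
      simpa using congrArg (fun z => (e z).2) h1
    rwa [CfsgLib.Classical.ExcIso.center_psl_bot (le_refl 2) (fun _ => by omega), mem_bot] at h
  have hne : (e ⟨t, htC⟩).1 ≠ 1 := fun h => Invol.invol_ne_one ht (congrArg Subtype.val
    ((EmbeddingLike.map_eq_one_iff (f := e)).1 (Prod.ext h hcen : e ⟨t, htC⟩ = 1)))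
  have hmemE : ∀ c : C, (c : G) ∈ E ↔ (e c).1 = 1 := by
    intro c
    constructor
    · rintro ⟨y, hy⟩
      rw [show c = e.symm (1, y) from Subtype.ext hy.symm, e.apply_symm_apply]
    · intro hc
      exact ⟨(e c).2, congrArg Subtype.val (e.injective (by
        show e (e.symm (1, (e c).2)) = e c
        rw [e.apply_symm_apply, ← hc]))⟩
  have hEC : E ≤ C := by
    rintro _ ⟨y, rfl⟩
    exact (e.symm.toMonoidHom (MonoidHom.inr _ _ y)).2
  have hprod : Cfsg.IsInternalDirectProduct (zpowers t) E C := by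
    refine ⟨zpowers_le.2 htC, hEC, fun a ha b hb => ?_, ?_, ?_⟩
    · obtain ⟨n, rfl⟩ := mem_zpowers_iff.1 ha
      exact ((show Commute t b from (mem_centralizer_singleton_iff.1 (hEC hb)).symm).zpow_left n).eq
    · refine (eq_bot_iff_forall _).2 fun x hx => ?_
      obtain ⟨n, rfl⟩ := mem_zpowers_iff.1 hx.1
      rw [← zpow_mod_orderOf, ht] at hx ⊢
      rcases Int.emod_two_eq_zero_or_one n with h | h <;>
        rw [show ((2 : ℕ) : ℤ) = 2 from rfl, h] at hx ⊢
      · exact zpow_zero t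
      · rw [zpow_one] at hx
        exact absurd ((hmemE ⟨t, htC⟩).1 hx.2) hne
    · refine le_antisymm (sup_le (zpowers_le.2 htC) hEC) fun c hc => ?_
      by_cases h : (e ⟨c, hc⟩).1 = 1
      · exact mem_sup_right ((hmemE _).2 h)
      · have h2 : t * c ∈ E := (hmemE (⟨t, htC⟩ * ⟨c, hc⟩)).2 (by
          rw [map_mul, Prod.fst_mul]; exact two_elements _ _ hne h)
        have h3 := mul_mem_sup (inv_mem (mem_zpowers t)) h2
        rwa [inv_mul_cancel_left] at h3
  let φ : E ≃* Matrix.ProjectiveSpecialLinearGroup (Fin 2) F := (MonoidHom.ofInjective hi).symm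
  have hE : centralizer ((⊤ : Subgroup E) : Set E) = ⊥ := by
    refine (eq_bot_iff_forall _).2 fun x hx => φ.injective ?_
    have hc : φ x ∈ center (Matrix.ProjectiveSpecialLinearGroup (Fin 2) F) := by
      refine mem_center_iff.2 fun y => ?_
      rw [← φ.apply_symm_apply y, ← map_mul, ← map_mul]
      exact congrArg φ (mem_centralizer_iff.1 hx _ (mem_top (φ.symm y)))
    rw [CfsgLib.Classical.ExcIso.center_psl_bot (le_refl 2) (fun _ => by omega), mem_bot] at hc
    rw [hc, map_one]
  obtain ⟨S⟩ : Nonempty (Sylow 2 G) := inferInstance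
  have hEn : (E.subgroupOf E).Normal := by rw [subgroupOf_self]; infer_instance
  have hCE : E ⊓ centralizer (E : Set G) = ⊥ := by
    refine (eq_bot_iff_forall _).2 fun x hx => ?_
    have h : (⟨x, hx.1⟩ : E) ∈ centralizer ((⊤ : Subgroup E) : Set E) := mem_centralizer_iff.2 fun y _ =>
      Subtype.ext (mem_centralizer_iff.1 hx.2 y y.2)
    rw [hE, mem_bot] at h
    exact congrArg Subtype.val h
  refine ⟨Cfsg.Agent.S1245.result hna S (isMulCommutative_iff.2 (hab S)) t ht E E hprod le_rfl hEn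
    ⟨F, iF, iF', hodd.1, ⟨φ⟩⟩ hCE, E, hprod, F, iF, iF', hodd.1, hodd.2, ⊤, inferInstance,
    ⟨Subgroup.topEquiv.trans φ⟩, hE⟩

/-- S3182 for abelian Sylow `2`-subgroups. -/
theorem centralInter_of_abelian (hC : Classified.{u}) {G : Type u} [Group G] [Finite G] [IsSimpleGroup G]
    (hna : ¬ IsMulCommutative G) (S : Sylow 2 G) (hS : IsMulCommutative (S : Subgroup G)) :
    (∃ (F : Type) (_ : Field F) (_ : Fintype F),
        (Fintype.card F % 8 = 0 ∨ Fintype.card F % 8 = 3 ∨ Fintype.card F % 8 = 5) ∧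
        Nonempty (G ≃* Matrix.ProjectiveSpecialLinearGroup (Fin 2) F)) ∨ CentralInterAbelian G := by
  have hab := abTwo_of_sylow S hS
  rcases hC G inferInstance hna hab with ⟨F, iF, iF', ⟨n, hn, hF⟩ | ⟨-, hF⟩, ⟨e⟩⟩ | hr
  · refine Or.inl ?_
    rcases Nat.lt_or_ge n 3 with h3 | h3
    · obtain rfl : n = 2 := by omega
      haveI : Fact (Nat.Prime 5) := ⟨by norm_num⟩
      obtain ⟨e'⟩ := iso_psl_five (show Fintype.card F = 4 from hF) e
      exact ⟨ZMod 5, inferInstance, inferInstance, Or.inr (Or.inr (by rw [ZMod.card])), ⟨e'⟩⟩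
    · exact ⟨F, iF, iF', Or.inl (Nat.mod_eq_zero_of_dvd (hF ▸ pow_dvd_pow 2 h3)), ⟨e⟩⟩
  · exact Or.inl ⟨F, iF, iF', Or.inr hF, ⟨e⟩⟩
  · exact Or.inr (centralInterAbelian_of_reeForm hna hab hr)

end CfsgLib.Walter.Consumers
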