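import Cfsg.Agent.Lib.Walter.Consumers.CentralInter
import Cfsg.Agent.Lib.Invol.CentralNonab.Main

/-!
# Simple groups with central Sylow `2`-intersections, given the abelian classification
-/

set_option autoImplicit false

namespace CfsgLib.Walter.Consumers

universe u

/-- S3182, given the classification of the simple groups with abelian Sylow `2`-subgroups. -/
theorem S3182_of_classified (hC : Classified.{u}) {G : Type u} [Group G] [Finite G] [IsSimpleGroup G]
    (hG : ¬ IsMulCommutative G)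
    (hCI : ∀ S T : Sylow 2 G, S ≠ T → ∃ U : Sylow 2 G,
      (S : Subgroup G) ⊓ (T : Subgroup G) ≤
        (Subgroup.center ↥(U : Subgroup G)).map (U : Subgroup G).subtype) :
    (∃ (F : Type) (_ : Field F) (_ : Fintype F),
        (Fintype.card F % 8 = 0 ∨ Fintype.card F % 8 = 3 ∨ Fintype.card F % 8 = 5) ∧
        Nonempty (G ≃* Matrix.ProjectiveSpecialLinearGroup (Fin 2) F)) ∨
    ((∀ S : Sylow 2 G, IsMulCommutative ↥(S : Subgroup G)) ∧
      ∃ t : G, orderOf t = 2 ∧ IsCoatom (Subgroup.centralizer ({t} : Set G)) ∧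
        ∃ E : Subgroup G, Cfsg.IsInternalDirectProduct (Subgroup.zpowers t) E
            (Subgroup.centralizer ({t} : Set G)) ∧
          ∃ (F : Type) (_ : Field F) (_ : Fintype F), Odd (Fintype.card F) ∧ 3 < Fintype.card F ∧
            ∃ N : Subgroup ↥E, N.Normal ∧
              Nonempty (↥N ≃* Matrix.ProjectiveSpecialLinearGroup (Fin 2) F) ∧
              Subgroup.centralizer (N : Set ↥E) = ⊥) ∨
    (∃ (m : ℕ) (F : Type) (_ : Field F) (_ : Fintype F), 1 ≤ m ∧ Fintype.card F = 2 ^ (2 * m + 1) ∧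
        Nonempty (G ≃* ↥(Cfsg.Lie.Sz F (2 ^ (m + 1))))) ∨
    (∃ (n : ℕ) (F : Type) (_ : Field F) (_ : Fintype F), 2 ≤ n ∧ Fintype.card F = 4 ^ n ∧
        Nonempty (G ≃* Cfsg.PSU 3 F (2 ^ n))) := by
  obtain ⟨S⟩ : Nonempty (Sylow 2 G) := inferInstance
  by_cases hS : IsMulCommutative (S : Subgroup G)
  · exact (centralInter_of_abelian hC hG S hS).imp_right Or.inl
  · rcases CfsgLib.CentralNonab.classify hCI hG S hS with ⟨F, iF, iF', m, hm, hF, g⟩ | h
    · exact Or.inr (Or.inr (Or.inl ⟨m, F, iF, iF', hm, hF, g⟩))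
    · exact Or.inr (Or.inr (Or.inr h))

end CfsgLib.Walter.Consumers
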