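import Cfsg.Agent.Lib.EqualOrder2.PslFacts

/-!
# In `PSL(2, q)` the semisimple elements are real
-/

set_option autoImplicit false
set_option linter.unusedSectionVars false
set_option linter.style.haveILetI false

namespace CfsgLib.Walter.Consumers

open Subgroup Matrix

variable {F : Type} [Field F] [Fintype F]

local notation "SL2" => Matrix.SpecialLinearGroup (Fin 2) F
local notation "PSL2" => Matrix.ProjectiveSpecialLinearGroup (Fin 2) F

theorem traceless_swap (a b c d x y z : F) (h : x * (a - d) + y * c + z * b = 0) :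
    !![x, y; z, -x] * !![a, b; c, d] = !![d, -b; -c, a] * !![x, y; z, -x] := by
  ext i j
  fin_cases i <;> fin_cases j <;> simp [Matrix.mul_apply, Fin.sum_univ_two]
  · linear_combination h
  · ring
  · ring
  · linear_combination h

/-- An element of prime order different from two and from the characteristic is inverted. -/
theorem psl_real {p : ℕ} [hp : Fact p.Prime] [CharP F p] {r : ℕ} (hr : r.Prime) (hrp : r ≠ p) {u : PSL2}
    (hu : orderOf u = r) : ∃ g : PSL2, g * u * g⁻¹ = u⁻¹ := by
  classical
  obtain ⟨M, rfl⟩ := QuotientGroup.mk'_surjective _ u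
  set A : Matrix (Fin 2) (Fin 2) F := (M : Matrix (Fin 2) (Fin 2) F) with hA
  set a := A 0 0 with ha
  set b := A 0 1 with hb
  set c := A 1 0 with hc
  set d := A 1 1 with hd
  have hAeq : A = !![a, b; c, d] := Matrix.eta_fin_two A
  have hdet : a * d - b * c = 1 := by
    have := M.det_coe
    rwa [Matrix.det_fin_two] at this
  -- no repeated eigenvalue
  have hss : ∀ ε : F, a + d = 2 * ε → (a - ε) * (a - ε) + b * c = 0 → False := by
    intro ε h2 h0
    set N : Matrix (Fin 2) (Fin 2) F := !![a - ε, b; c, d - ε] with hN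
    have hNN : N * N = 0 := by
      rw [hN]
      ext i j
      fin_cases i <;> fin_cases j <;> simp [Matrix.mul_apply, Fin.sum_univ_two]
      · exact h0
      · linear_combination b * h2
      · linear_combination c * h2
      · linear_combination h0 + (d - a) * h2
    have hdec : A = ε • (1 : Matrix (Fin 2) (Fin 2) F) + N := by
      rw [hAeq, hN]
      ext i j
      fin_cases i <;> fin_cases j <;> simp
    have hcomm : Commute (ε • (1 : Matrix (Fin 2) (Fin 2) F)) N := (Commute.one_left N).smul_left ε
    have hpow : A ^ p = ε ^ p • (1 : Matrix (Fin 2) (Fin 2) F) := by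
      rw [hdec, add_pow_char_of_commute _ hcomm, smul_pow, one_pow]
      obtain ⟨k, hk⟩ := Nat.exists_eq_add_of_le hp.out.two_le
      rw [hk, pow_add N, pow_two, hNN, zero_mul, add_zero]
    have hcen : M ^ p ∈ Subgroup.center SL2 := Subgroup.mem_center_iff.2 fun g => Subtype.ext (by
      show (g : Matrix (Fin 2) (Fin 2) F) * ((M ^ p : SL2) : Matrix (Fin 2) (Fin 2) F) =
        ((M ^ p : SL2) : Matrix (Fin 2) (Fin 2) F) * (g : Matrix (Fin 2) (Fin 2) F)
      rw [Matrix.SpecialLinearGroup.coe_pow, ← hA, hpow, mul_smul_comm, smul_mul_assoc, mul_one, one_mul])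
    have h1 : (QuotientGroup.mk' (Subgroup.center SL2) M) ^ p = 1 := by
      rw [← map_pow]
      exact (QuotientGroup.eq_one_iff _).2 hcen
    have h3 := orderOf_dvd_of_pow_eq_one h1
    rw [hu] at h3
    exact hrp ((Nat.prime_dvd_prime_iff_eq hr hp.out).1 h3)
  obtain ⟨x, y, z, hlin, hdet'⟩ : ∃ x y z : F, x * (a - d) + y * c + z * b = 0 ∧ -(x * x) - y * z = 1 := by
    by_cases hc0 : c = 0
    · by_cases had : a = d
      · exfalso
        refine hss a (by rw [← had]; ring) ?_
        rw [hc0]; ring
      have had' : a - d ≠ 0 := sub_ne_zero.2 had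
      by_cases hb0 : b = 0
      · exact ⟨0, 1, -1, by rw [hc0, hb0]; ring, by ring⟩
      · refine ⟨1, 2 * b / (a - d), -(a - d) / b, ?_, ?_⟩
        · rw [hc0]; field_simp; ring
        · field_simp; ring
    · by_cases h2 : (2 : F) = 0
      · refine ⟨1, -(a - d) / c, 0, by field_simp; ring, ?_⟩
        linear_combination (-1 : F) * h2
      set D := ((a - d) * (a - d) + 4 * (b * c)) / (4 * c * c) with hD
      have h4 : (4 : F) ≠ 0 := by
        rw [show (4 : F) = 2 * 2 by norm_num]; exact mul_ne_zero h2 h2
      have hD0 : D ≠ 0 := by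
        intro h0
        rw [hD, div_eq_zero_iff, or_iff_left (mul_ne_zero (mul_ne_zero h4 hc0) hc0)] at h0
        refine hss ((a + d) / 2) (by field_simp) ?_
        field_simp
        linear_combination h0
      have hodd : Fintype.card F % 2 = 1 :=
        FiniteField.odd_card_of_char_ne_two fun e => h2 (by
          haveI := ringChar.charP F
          exact_mod_cast (CharP.cast_eq_zero_iff F (ringChar F) 2).2 (e ▸ dvd_rfl))
      obtain ⟨w, z, hwz⟩ := FiniteField.exists_root_sum_quadratic (R := F)
        (f := -(Polynomial.X ^ 2) - 1) (g := Polynomial.C D * Polynomial.X ^ 2) (by compute_degree!)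
        (Polynomial.degree_C_mul_X_pow 2 hD0) hodd
      simp at hwz
      set x := w + (a - d) / (2 * c) * z with hx
      refine ⟨x, -(x * (a - d) + z * b) / c, z, by field_simp; ring, ?_⟩
      rw [hD] at hwz
      rw [hx]
      field_simp at hwz ⊢
      linear_combination hwz
  refine ⟨QuotientGroup.mk' _ (⟨!![x, y; z, -x], by rw [Matrix.det_fin_two_of]; linear_combination hdet'⟩ : SL2),
    mul_inv_eq_iff_eq_mul.2 ?_⟩
  have e : ∀ g : SL2, g * M = M⁻¹ * g →
      QuotientGroup.mk' (Subgroup.center SL2) g * QuotientGroup.mk' (Subgroup.center SL2) M =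
        (QuotientGroup.mk' (Subgroup.center SL2) M)⁻¹ * QuotientGroup.mk' (Subgroup.center SL2) g := fun g hg =>
    (map_mul _ _ _).symm.trans ((congrArg _ hg).trans ((map_mul _ _ _).trans (congrArg (· * _) (map_inv _ _))))
  refine e _ (Subtype.ext ?_)
  show !![x, y; z, -x] * A = Matrix.adjugate A * !![x, y; z, -x]
  rw [Matrix.adjugate_fin_two, hAeq]
  simpa using traceless_swap a b c d x y z hlin

end CfsgLib.Walter.Consumers
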