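import Cfsg.Agent.Lib.Walter.Main
import Cfsg.Agent.Lib.Walter.Consumers.Defs
import Cfsg.Agent.Lib.Walter.Rank.Factor
import Cfsg.Agent.Lib.Char.RealEven
import Mathlib.NumberTheory.LegendreSymbol.QuadraticChar.Basic

/-!
# A real element with a centralizer of odd order

A simple group with abelian Sylow `2`-subgroups has a nontrivial real element whose centralizer has odd order:
a semisimple or a unipotent element of `PSL(2, q)`, and for the forms of Janko and Ree a count of involutions.
-/

set_option autoImplicit false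
set_option linter.unusedSectionVars false
set_option linter.style.haveILetI false

namespace CfsgLib.Walter.Consumers.RealElement

open Subgroup Matrix CfsgLib.Walter.Rank.Factor
open CfsgLib.MinNonCA (uT pi_eq_cases sl2_val_mul)
open CfsgLib.EqualOrder2 (rootU mem_rootU card_rootU)

universe u

variable {F : Type} [Field F] [Fintype F]

local notation "SL2" => Matrix.SpecialLinearGroup (Fin 2) F
local notation "PSL2" => Matrix.ProjectiveSpecialLinearGroup (Fin 2) F
local notation "π" => QuotientGroup.mk' (Subgroup.center (Matrix.SpecialLinearGroup (Fin 2) F))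
local notation:max "↟" A:max => ((A : Matrix.SpecialLinearGroup (Fin 2) F) : Matrix (Fin 2) (Fin 2) F)

/-- The diagonal torus as a homomorphism into `PSL(2, F)`. -/
def torusHom : Fˣ →* PSL2 :=
  MonoidHom.mk' (fun a => π (diagElt a)) fun a b => by
    rw [← map_mul]
    refine congrArg π (Subtype.ext ?_)
    rw [sl2_val_mul]
    ext i j
    fin_cases i <;> fin_cases j <;> simp [diagElt, Matrix.mul_apply, Fin.sum_univ_two, mul_comm]

/-- The element exchanging the two eigenlines of the torus. -/
def flipElt : SL2 := ⟨!![0, 1; -1, 0], by simp [Matrix.det_fin_two]⟩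

theorem torusHom_inv (a : Fˣ) : IsConj (torusHom a) (torusHom a)⁻¹ := by
  refine isConj_iff.2 ⟨π flipElt, mul_inv_eq_iff_eq_mul.2 ?_⟩
  rw [← map_inv]
  show π flipElt * π (diagElt a) = π (diagElt a⁻¹) * π flipElt
  rw [← map_mul, ← map_mul]
  refine congrArg π (Subtype.ext ?_)
  rw [sl2_val_mul, sl2_val_mul]
  ext i j
  fin_cases i <;> fin_cases j <;> simp [flipElt, diagElt, Matrix.mul_apply, Fin.sum_univ_two]

theorem centralizer_le_torus {a : Fˣ} (ha : a ^ 4 ≠ 1) :
    centralizer ({torusHom a} : Set PSL2) ≤ (torusHom : Fˣ →* PSL2).range := by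
  intro x hx
  obtain ⟨M, rfl⟩ := QuotientGroup.mk'_surjective _ x
  have h : π (M * diagElt a) = π (diagElt a * M) := by
    rw [map_mul, map_mul]
    exact mem_centralizer_singleton_iff.1 hx
  have hval : (a : F) ^ 4 ≠ 1 := fun e => ha (Units.ext (by push_cast; exact e))
  have ha0 : (a : F) ≠ 0 := a.ne_zero
  have key : ∀ z : F, z * ((a : F) * a - 1) = 0 ∨ z * ((a : F) * a + 1) = 0 → z = 0 := by
    intro z hz
    rcases hz with hz | hz
    all_goals
      refine (mul_eq_zero.1 hz).resolve_right fun e => hval ?_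
    · linear_combination ((a : F) * a + 1) * e
    · linear_combination ((a : F) * a - 1) * e
  obtain ⟨h01, h10⟩ : ↟M 0 1 = 0 ∧ ↟M 1 0 = 0 := by
    rcases pi_eq_cases h with e | e
    · rw [sl2_val_mul, sl2_val_mul] at e
      have e01 := congrFun₂ e 0 1
      have e10 := congrFun₂ e 1 0
      simp [diagElt, Matrix.mul_apply, Fin.sum_univ_two] at e01 e10
      field_simp at e01 e10
      exact ⟨key _ (Or.inl (by linear_combination e01)), key _ (Or.inl (by linear_combination -e10))⟩
    · rw [sl2_val_mul, sl2_val_mul] at e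
      have e01 := congrFun₂ e 0 1
      have e10 := congrFun₂ e 1 0
      simp [diagElt, Matrix.mul_apply, Fin.sum_univ_two] at e01 e10
      field_simp at e01 e10
      exact ⟨key _ (Or.inr (by linear_combination e01)), key _ (Or.inr (by linear_combination e10))⟩
  have hdet : ↟M 0 0 * ↟M 1 1 = 1 := by
    have := M.det_coe
    rwa [Matrix.det_fin_two, h01, zero_mul, sub_zero] at this
  refine ⟨Units.mkOfMulEqOne _ _ hdet, congrArg π (Subtype.ext ?_)⟩
  have hd : ↟M 1 1 = (↟M 0 0)⁻¹ := eq_inv_of_mul_eq_one_right hdet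
  ext i j
  fin_cases i <;> fin_cases j <;> simp [diagElt, h01, h10, hd]

theorem odd_range_torus (h : Fintype.card F % 2 = 0 ∨ Fintype.card F % 4 = 3) :
    Odd (Nat.card (torusHom : Fˣ →* PSL2).range) := by
  classical
  have hcard : Nat.card Fˣ = Fintype.card F - 1 := by
    rw [Nat.card_units, Nat.card_eq_fintype_card]
  have hpos : 2 ≤ Fintype.card F := Fintype.one_lt_card
  rcases h with h | h
  · refine Odd.of_dvd_nat ?_ (Subgroup.card_range_dvd (torusHom : Fˣ →* PSL2))
    rw [hcard]
    exact Nat.odd_iff.2 (by omega)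
  have h2 : ringChar F ≠ 2 := fun e => by
    have h' := FiniteField.even_card_of_char_two e
    omega
  have hker : (-1 : Fˣ) ∈ (torusHom : Fˣ →* PSL2).ker := by
    refine MonoidHom.mem_ker.2 ((QuotientGroup.eq_one_iff _).2 ?_)
    refine Subgroup.mem_center_iff.2 fun g => Subtype.ext ?_
    rw [sl2_val_mul, sl2_val_mul]
    ext i j
    fin_cases i <;> fin_cases j <;> simp [diagElt, Matrix.mul_apply, Fin.sum_univ_two]
  have h2k : 2 ∣ Nat.card (torusHom : Fˣ →* PSL2).ker := by
    have ho : orderOf (-1 : Fˣ) = 2 := by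
      refine orderOf_eq_prime (by norm_num) fun e => Ring.neg_one_ne_one_of_char_ne_two h2 ?_
      simpa using congrArg Units.val e
    have h := Subgroup.orderOf_dvd_natCard (torusHom : Fˣ →* PSL2).ker hker
    rwa [ho] at h
  have hmul := (torusHom : Fˣ →* PSL2).ker.card_eq_card_quotient_mul_card_subgroup
  rw [Nat.card_congr (QuotientGroup.quotientKerEquivRange (torusHom : Fˣ →* PSL2)).toEquiv, hcard] at hmul
  obtain ⟨c, hc⟩ := h2k
  rw [hc] at hmul
  refine Odd.of_dvd_nat (n := (Fintype.card F - 1) / 2) (Nat.odd_iff.2 (by omega)) ⟨c, ?_⟩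
  rw [hmul, show Nat.card (torusHom : Fˣ →* PSL2).range * (2 * c) =
    2 * (Nat.card (torusHom : Fˣ →* PSL2).range * c) by ring, Nat.mul_div_cancel_left _ (by norm_num)]

/-- An element of the torus is real and has a centralizer of odd order. -/
theorem exists_real_torus (hq : 4 ≤ Fintype.card F) (h : Fintype.card F % 2 = 0 ∨ Fintype.card F % 4 = 3) :
    ∃ y : PSL2, y ≠ 1 ∧ IsConj y y⁻¹ ∧ Odd (Nat.card (centralizer ({y} : Set PSL2))) := by
  classical
  obtain ⟨g, hg⟩ := IsCyclic.exists_generator (α := Fˣ)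
  have hord : orderOf g = Fintype.card F - 1 := by
    rw [orderOf_eq_card_of_forall_mem_zpowers hg, Nat.card_units, Nat.card_eq_fintype_card]
  have ha : g ^ 4 ≠ 1 := fun e => by
    have h4 := orderOf_dvd_of_pow_eq_one e
    rw [hord] at h4
    have := Nat.le_of_dvd (by norm_num) h4
    generalize hk : Fintype.card F - 1 = k at h4 this
    interval_cases k <;> omega
  refine ⟨torusHom g, fun e => ha ?_, torusHom_inv g,
    Odd.of_dvd_nat (odd_range_torus h) (Subgroup.card_dvd_of_le (centralizer_le_torus ha))⟩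
  have hsq : (g : F) * g = 1 := by
    rcases pi_eq_cases (show π (diagElt g) = π 1 by rw [map_one]; exact e) with e' | e'
    all_goals
      have e00 := congrFun₂ e' 0 0
      simp [diagElt] at e00
    · rw [← e00, mul_one]
    · rw [show (g : F) = -1 by linear_combination e00]; ring
  refine Units.ext ?_
  push_cast
  linear_combination ((g : F) * g + 1) * hsq

/-- For `q ≡ 1 (mod 4)` a unipotent element is real and has a centralizer of odd order. -/
theorem exists_real_unipotent (h : Fintype.card F % 4 = 1) :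
    ∃ y : PSL2, y ≠ 1 ∧ IsConj y y⁻¹ ∧ Odd (Nat.card (centralizer ({y} : Set PSL2))) := by
  classical
  have h2 : (2 : F) ≠ 0 := Ring.two_ne_zero fun e => by
    have := FiniteField.even_card_of_char_two e
    omega
  refine ⟨π (uT 1), fun e => ?_, ?_, ?_⟩
  · rcases pi_eq_cases (show π (uT (1 : F)) = π 1 by rw [map_one]; exact e) with e' | e'
    all_goals
      have e01 := congrFun₂ e' 0 1
      simp [uT] at e01
  · obtain ⟨i, hi⟩ := FiniteField.isSquare_neg_one_iff.2 (show Fintype.card F % 4 ≠ 3 by omega)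
    have hi0 : i ≠ 0 := fun e => by simp [e] at hi
    refine isConj_iff.2 ⟨π (diagElt (Units.mk0 i hi0)), ?_⟩
    rw [diag_conj_proj, mul_one, Units.val_mk0, ← hi, ← map_inv]
    refine congrArg π (eq_inv_of_mul_eq_one_left (Subtype.ext ?_))
    rw [CfsgLib.MinNonCA.uT_mul]
    ext i j
    fin_cases i <;> fin_cases j <;> simp [uT]
  refine Odd.of_dvd_nat (n := Nat.card (rootU : Subgroup PSL2)) ?_ (Subgroup.card_dvd_of_le ?_)
  · rw [card_rootU]
    exact Nat.odd_iff.2 (by omega)
  intro x hx
  obtain ⟨M, rfl⟩ := QuotientGroup.mk'_surjective _ x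
  have hMU : π (M * uT 1) = π (uT 1 * M) := by
    rw [map_mul, map_mul]
    exact mem_centralizer_singleton_iff.1 hx
  have hdet := M.det_coe
  rw [Matrix.det_fin_two] at hdet
  rcases pi_eq_cases hMU with e | e
  all_goals
    rw [sl2_val_mul, sl2_val_mul] at e
    have e00 := congrFun₂ e 0 0
    have e01 := congrFun₂ e 0 1
    have e10 := congrFun₂ e 1 0
    simp [uT, Matrix.mul_apply, Fin.sum_univ_two] at e00 e01 e10
  · have h10 : ↟M 1 0 = 0 := by linear_combination e00
    have h11 : ↟M 1 1 = ↟M 0 0 := by linear_combination e01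
    rw [h10, h11, mul_zero, sub_zero] at hdet
    rcases mul_self_eq_one_iff.1 hdet with h00 | h00
    · refine mem_rootU.2 ⟨↟M 0 1, congrArg π (Subtype.ext ?_)⟩
      ext i j
      fin_cases i <;> fin_cases j <;> simp [uT, h10, h11, h00]
    · refine mem_rootU.2 ⟨-↟M 0 1, ?_⟩
      refine QuotientGroup.eq.2 ?_
      refine Subgroup.mem_center_iff.2 fun g => Subtype.ext ?_
      have hM : ↟((uT (-↟M 0 1))⁻¹ * M) = -1 := by
        rw [sl2_val_mul, Matrix.SpecialLinearGroup.coe_inv, Matrix.adjugate_fin_two]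
        ext i j
        fin_cases i <;> fin_cases j <;> simp [uT, Matrix.mul_apply, Fin.sum_univ_two, h10, h11, h00]
      rw [sl2_val_mul, sl2_val_mul _ g, hM]
      simp
  · exfalso
    have h10 : ↟M 1 0 = 0 := (mul_eq_zero.1 (show (2 : F) * ↟M 1 0 = 0 by linear_combination e10)).resolve_left h2
    rw [h10, add_zero] at e00
    have h00 : ↟M 0 0 = 0 := (mul_eq_zero.1 (show (2 : F) * ↟M 0 0 = 0 by linear_combination e00)).resolve_left h2
    rw [h10, h00, mul_zero, zero_mul, sub_zero] at hdet
    exact zero_ne_one hdet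

/-- The traceless elements of `SL(2, F)` are at most `q (q - 1) + r q`, `r` the number of roots of `-1`. -/
theorem card_traceless_le {r : ℕ} (hr : Nat.card {a : F // a * a = -1} ≤ r) :
    Nat.card {M : SL2 // ↟M 1 1 = -↟M 0 0} ≤
      Fintype.card F * (Fintype.card F - 1) + r * Fintype.card F := by
  classical
  let f : {M : SL2 // ↟M 1 1 = -↟M 0 0} → (F × Fˣ) ⊕ ({a : F // a * a = -1} × F) := fun M =>
    if h : ↟M.1 0 1 = 0 then Sum.inr (⟨↟M.1 0 0, by
      have := M.1.det_coe
      rw [Matrix.det_fin_two, h, zero_mul, sub_zero, M.2] at this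
      linear_combination -this⟩, ↟M.1 1 0)
    else Sum.inl (↟M.1 0 0, Units.mk0 _ h)
  have hf : Function.Injective f := by
    intro M N e
    have hM := M.1.det_coe
    have hN := N.1.det_coe
    rw [Matrix.det_fin_two, M.2] at hM
    rw [Matrix.det_fin_two, N.2] at hN
    obtain ⟨h00, h01, h10⟩ : ↟M.1 0 0 = ↟N.1 0 0 ∧ ↟M.1 0 1 = ↟N.1 0 1 ∧ ↟M.1 1 0 = ↟N.1 1 0 := by
      by_cases a : ↟M.1 0 1 = 0 <;> by_cases b : ↟N.1 0 1 = 0 <;> simp [f, a, b] at e
      · exact ⟨e.1, by rw [a, b], e.2⟩
      · obtain ⟨e1, e2⟩ := e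
        refine ⟨e1, e2, mul_left_cancel₀ a ?_⟩
        rw [← e1, ← e2] at hN
        linear_combination hN - hM
    refine Subtype.ext (Subtype.ext ?_)
    ext i j
    fin_cases i <;> fin_cases j
    exacts [h00, h01, h10, show ↟M.1 1 1 = ↟N.1 1 1 by rw [M.2, N.2, h00]]
  refine (Nat.card_le_card_of_injective f hf).trans ?_
  rw [Nat.card_sum, Nat.card_prod, Nat.card_prod, Nat.card_units, Nat.card_eq_fintype_card (α := F)]
  exact Nat.add_le_add_left (Nat.mul_le_mul_right _ hr) _

/-- The solutions of `x * x = 1` in `PSL(2, F)`, `q` odd, through the traceless elements. -/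
theorem card_sq_one_le (hodd : Fintype.card F % 2 = 1) :
    2 * Nat.card {x : PSL2 // x * x = 1} ≤ Nat.card {M : SL2 // ↟M 1 1 = -↟M 0 0} + 2 := by
  classical
  have h2 : (2 : F) ≠ 0 := Ring.two_ne_zero fun e => by
    have := FiniteField.even_card_of_char_two e
    omega
  have hpos : 2 ≤ Fintype.card F := Fintype.one_lt_card
  set Z := Subgroup.center SL2
  have hZ : Nat.card Z = 2 := by
    rw [Classical.card_center_sl (by omega)]
    exact Nat.gcd_eq_left (by omega)
  set S : Set SL2 := {M | π M * π M = 1}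
  have hS : Nat.card S = Nat.card Z * Nat.card {x : PSL2 // x * x = 1} :=
    (Nat.card_congr (QuotientGroup.preimageMkEquivSubgroupProdSet Z {x : PSL2 | x * x = 1})).trans
      (Nat.card_prod _ _)
  rw [hZ] at hS
  suffices h : Nat.card S ≤ Nat.card {M : SL2 // ↟M 1 1 = -↟M 0 0} + Nat.card Z by omega
  have hsub : S ⊆ {M : SL2 | ↟M 1 1 = -↟M 0 0} ∪ (Z : Set SL2) := by
    intro M hM
    have h := M.det_coe
    rw [Matrix.det_fin_two] at h
    have hM' : π M = π M⁻¹ := by
      rw [map_inv]
      exact eq_inv_of_mul_eq_one_left hM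
    rcases pi_eq_cases hM' with e | e
    all_goals
      rw [Matrix.SpecialLinearGroup.coe_inv, Matrix.adjugate_fin_two] at e
      have e00 := congrFun₂ e 0 0
      have e01 := congrFun₂ e 0 1
      have e10 := congrFun₂ e 1 0
      simp at e00 e01 e10
    · refine Or.inr (Subgroup.mem_center_iff.2 fun g => Subtype.ext ?_)
      have h01 : ↟M 0 1 = 0 := (mul_eq_zero.1 (show (2 : F) * ↟M 0 1 = 0 by linear_combination -e01)).resolve_left h2
      have h10 : ↟M 1 0 = 0 := (mul_eq_zero.1 (show (2 : F) * ↟M 1 0 = 0 by linear_combination -e10)).resolve_left h2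
      rw [sl2_val_mul, sl2_val_mul]
      ext i j
      fin_cases i <;> fin_cases j <;> simp [Matrix.mul_apply, Fin.sum_univ_two, h01, h10, e00] <;> ring
    · exact Or.inl e00
  have hle := Set.ncard_le_ncard hsub (Set.toFinite _)
  have hu := Set.ncard_union_le {M : SL2 | ↟M 1 1 = -↟M 0 0} (Z : Set SL2)
  rw [← Nat.card_coe_set_eq, ← Nat.card_coe_set_eq] at hle
  rw [← Nat.card_coe_set_eq, ← Nat.card_coe_set_eq, ← Nat.card_coe_set_eq] at hu
  exact hle.trans hu

/-- The involutions centralizing an involution `t` with `C(t) ≅ 2 × PSL(2, q)`. -/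
theorem card_invol_cent_le {X : Type u} [Group X] [Finite X] {t : X}
    (e : centralizer ({t} : Set X) ≃* Multiplicative (ZMod 2) × PSL2) (hodd : Fintype.card F % 2 = 1)
    {r : ℕ} (hr : Nat.card {a : F // a * a = -1} ≤ r) :
    Nat.card {u : X // orderOf u = 2 ∧ Commute u t} ≤
      Fintype.card F * (Fintype.card F - 1) + r * Fintype.card F + 1 := by
  classical
  letI := Fintype.ofFinite {u : X // orderOf u = 2 ∧ Commute u t}
  let f : {u : X // orderOf u = 2 ∧ Commute u t} → Multiplicative (ZMod 2) × {x : PSL2 // x * x = 1} := fun u =>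
    ((e ⟨u.1, mem_centralizer_singleton_iff.2 u.2.2⟩).1,
      ⟨(e ⟨u.1, mem_centralizer_singleton_iff.2 u.2.2⟩).2, by
        have h : (⟨u.1, mem_centralizer_singleton_iff.2 u.2.2⟩ : centralizer ({t} : Set X)) *
            ⟨u.1, mem_centralizer_singleton_iff.2 u.2.2⟩ = 1 := Subtype.ext (Invol.invol_mul_self u.2.1)
        have h' := congrArg e h
        rw [map_mul, map_one] at h'
        exact congrArg Prod.snd h'⟩)
  have hf : Function.Injective f := fun a b h => by
    have h1 := congrArg Prod.fst h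
    have h2 := congrArg (fun z : Multiplicative (ZMod 2) × {x : PSL2 // x * x = 1} => (z.2 : PSL2)) h
    have h0 := congrArg (fun z : centralizer ({t} : Set X) => (z : X)) (e.injective (Prod.ext h1 h2))
    exact Subtype.ext h0
  have hlt : Fintype.card {u : X // orderOf u = 2 ∧ Commute u t} <
      Fintype.card (Multiplicative (ZMod 2) × {x : PSL2 // x * x = 1}) :=
    Fintype.card_lt_of_injective_of_notMem f hf (b := (1, ⟨1, mul_one 1⟩)) fun ⟨u, hu⟩ => by
      have h2 := congrArg Prod.fst hu
      have h3 := congrArg (fun z : Multiplicative (ZMod 2) × {x : PSL2 // x * x = 1} => (z.2 : PSL2)) hu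
      have h1 : e ⟨u.1, mem_centralizer_singleton_iff.2 u.2.2⟩ = 1 := Prod.ext h2 h3
      exact Invol.invol_ne_one u.2.1 (congrArg Subtype.val (e.injective (h1.trans (map_one e).symm)))
  rw [← Nat.card_eq_fintype_card, ← Nat.card_eq_fintype_card, Nat.card_prod,
    show Nat.card (Multiplicative (ZMod 2)) = 2 by simp [Nat.card_eq_fintype_card]] at hlt
  have := card_sq_one_le (F := F) hodd
  have := card_traceless_le (F := F) hr
  omega

/-- The Janko and Ree forms. -/
theorem exists_real_reeForm {X : Type u} [Group X] [Finite X] [IsSimpleGroup X] (hab : AbTwo X)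
    (hr : ReeForm X) :
    ∃ y : X, y ≠ 1 ∧ IsConj y y⁻¹ ∧ Odd (Nat.card (centralizer ({y} : Set X))) := by
  classical
  have hc : CentForm X := Or.inr hr
  obtain ⟨-, t, ht, F, iF, iF', hF, ⟨e⟩⟩ := hr
  have h8 := Rank.Factor.psl_mod hF
  rw [Nat.card_eq_fintype_card] at h8
  set q := Fintype.card F with hq
  haveI := Fintype.ofFinite X
  have hodd : q % 2 = 1 := by omega
  have hconj : ∀ u : X, orderOf u = 2 → IsConj t u := fun u hu =>
    isConj_iff.2 (Rank.invol_conjugate inferInstance hc hab ht hu)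
  have hC : Nat.card (centralizer ({t} : Set X)) = q * ((q - 1) * (q + 1)) := by
    rw [Nat.card_congr e.toEquiv, Nat.card_prod,
      show Nat.card (Multiplicative (ZMod 2)) = 2 by simp [Nat.card_eq_fintype_card]]
    have h := CfsgLib.Classical.card_psl2 (F := F)
    rwa [Nat.gcd_eq_left (show 2 ∣ Fintype.card F - 1 by omega)] at h
  rcases JTh.main_univ (fun _ _ _ _ T5 => ReeType.Five.Setup.false_of_torus _ T5) hab
      (show 3 ≤ Fintype.card F by omega) t ht ⟨e⟩ with ⟨m, hm, hqm, hX⟩ | ⟨h45, -, hX⟩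
  · rw [← hqm] at hX
    have hr0 : Nat.card {a : F // a * a = -1} ≤ 0 := by
      refine le_of_eq ?_
      haveI : IsEmpty {a : F // a * a = -1} := ⟨fun a => by
        refine (FiniteField.isSquare_neg_one_iff.1 ⟨a.1, a.2.symm⟩ : Fintype.card F % 4 ≠ 3) ?_
        have : 3 ^ (2 * m + 1) % 4 = 3 := by rw [pow_succ, pow_mul, Nat.mul_mod, Nat.pow_mod]; norm_num
        rwa [← hqm] at this⟩
      exact Nat.card_of_isEmpty
    refine Char.RealEven.exists_real_odd_centralizer ht hconj (card_invol_cent_le e hodd hr0) ?_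
    rw [hC, hX, ← hq]
    obtain ⟨p, hp⟩ : ∃ p, q = p + 1 := ⟨q - 1, by omega⟩
    have hp2 : 2 ≤ p := by omega
    rw [hp, Nat.add_sub_cancel]
    zify
    nlinarith [mul_pos (mul_pos (show (0 : ℤ) < p by omega) (show (0 : ℤ) < (p : ℤ) + 1 by omega))
      (show (0 : ℤ) < ((p : ℤ) + 1) ^ 3 + 1 by positivity)]
  · have h5 : q = 5 := by omega
    have hr2 : Nat.card {a : F // a * a = -1} ≤ 2 := by
      rcases isEmpty_or_nonempty {a : F // a * a = -1} with h | ⟨⟨a₀, ha₀⟩⟩
      · rw [Nat.card_of_isEmpty]; omega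
      let g : Fin 2 → {a : F // a * a = -1} := fun i =>
        if i = 0 then ⟨a₀, ha₀⟩ else ⟨-a₀, by rw [neg_mul_neg, ha₀]⟩
      have hg : Function.Surjective g := fun a => by
        rcases mul_self_eq_mul_self_iff.1 (a.2.trans ha₀.symm) with h | h
        · exact ⟨0, Subtype.ext (by simp [g, h])⟩
        · exact ⟨1, Subtype.ext (by simp [g, h])⟩
      simpa using Nat.card_le_card_of_surjective g hg
    refine Char.RealEven.exists_real_odd_centralizer ht hconj (card_invol_cent_le e hodd hr2) ?_
    rw [hC, hX, ← hq, h5]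
    norm_num

/-- A nontrivial real element with a centralizer of odd order. -/
theorem exists_real_odd {X : Type u} [Group X] [Finite X] [IsSimpleGroup X] (hab : AbTwo X)
    (hc : CentForm X) :
    ∃ y : X, y ≠ 1 ∧ IsConj y y⁻¹ ∧ Odd (Nat.card (centralizer ({y} : Set X))) := by
  rcases hc with ⟨F, iF, iF', hF, ⟨e⟩⟩ | hr
  · obtain ⟨y, hy, hreal, hodd⟩ : ∃ y : Matrix.ProjectiveSpecialLinearGroup (Fin 2) F,
        y ≠ 1 ∧ IsConj y y⁻¹ ∧ Odd (Nat.card (centralizer ({y} : Set _))) := by
      rcases hF with ⟨n, hn, hn'⟩ | ⟨h5, h8⟩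
      · refine exists_real_torus (F := F) ?_ (Or.inl ?_)
        · rw [hn']; exact le_trans (by norm_num) (Nat.pow_le_pow_right (by norm_num) hn)
        · rw [hn']
          exact Nat.mod_eq_zero_of_dvd (dvd_pow_self 2 (by omega))
      · rcases h8 with h8 | h8
        · exact exists_real_torus (F := F) (by omega) (Or.inr (by omega))
        · exact exists_real_unipotent (F := F) (by omega)
    refine ⟨e.symm y, fun h => hy (by rw [← e.apply_symm_apply y, h, map_one]), ?_, ?_⟩
    · rw [← map_inv]
      exact e.symm.toMonoidHom.map_isConj hreal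
    · rwa [← show Nat.card (centralizer ({y} : Set _)) = Nat.card (centralizer ({e.symm y} : Set X)) from
        Nat.card_congr (e.symm.toEquiv.subtypeEquiv fun z => by
          show z ∈ centralizer ({y} : Set _) ↔ e.symm z ∈ centralizer ({e.symm y} : Set X)
          rw [mem_centralizer_singleton_iff, mem_centralizer_singleton_iff, ← map_mul, ← map_mul,
            e.symm.injective.eq_iff])]
  · exact exists_real_reeForm hab hr

end CfsgLib.Walter.Consumers.RealElement
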