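import Cfsg.Agent.Lib.Walter.Consumers.ReeType
import Cfsg.Agent.Lib.Ree.Borel

/-!
# Doubly transitive actions of the simple groups with abelian Sylow `2`-subgroups
-/

set_option autoImplicit false
set_option linter.style.haveILetI false

namespace CfsgLib.Walter.Consumers.TwoTransitive

open Subgroup

universe u

/-- No doubly transitive action exists: the hypothesis of the statement. -/
def NoAction (G : Type u) [Group G] : Prop :=
  ∀ (Ω : Type) [Fintype Ω] [MulAction G Ω] [FaithfulSMul G Ω], ¬ MulAction.IsMultiplyPretransitive G Ω 2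

variable {G : Type u} [Group G] [Finite G]

theorem false_of_perm [IsSimpleGroup G] (hno : NoAction G) {Ω : Type} [Finite Ω] [Nontrivial Ω]
    (f : G →* Equiv.Perm Ω)
    (h2 : ∀ a b c d : Ω, a ≠ b → c ≠ d → ∃ g, f g a = c ∧ f g b = d) : False := by
  classical
  letI : Fintype Ω := Fintype.ofFinite Ω
  letI : MulAction G Ω := MulAction.compHom Ω f
  have hinj : Function.Injective f := by
    rw [← MonoidHom.ker_eq_bot_iff]
    refine (f.normal_ker.eq_bot_or_eq_top).resolve_right fun h => ?_
    obtain ⟨a, b, hab⟩ := exists_pair_ne Ω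
    obtain ⟨g, hg, -⟩ := h2 a b b a hab hab.symm
    rw [MonoidHom.mem_ker.1 (h ▸ mem_top g : g ∈ f.ker)] at hg
    exact hab hg
  haveI : FaithfulSMul G Ω := ⟨fun {g₁ g₂} h => hinj (Equiv.ext h)⟩
  refine hno Ω (MulAction.is_two_pretransitive_iff.2 fun {a b c d} hab hcd => ?_)
  obtain ⟨g, hg⟩ := h2 a b c d hab hcd
  exact ⟨g, hg⟩

theorem false_of_psl [IsSimpleGroup G] (hno : NoAction G) {F : Type} [Field F] [Fintype F]
    (e : G ≃* Matrix.ProjectiveSpecialLinearGroup (Fin 2) F) : False := by
  classical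
  have hker : Subgroup.center (Matrix.SpecialLinearGroup (Fin 2) F) ≤
      (MulAction.toPermHom (Matrix.SpecialLinearGroup (Fin 2) F) (Projectivization F (Fin 2 → F))).ker :=
    Projectivization.SL_mulAction_ker.ge
  haveI : Nontrivial (Projectivization F (Fin 2 → F)) :=
    ⟨⟨Projectivization.mk F (![1, 0] : Fin 2 → F) (by simp),
      Projectivization.mk F (![0, 1] : Fin 2 → F) (by simp), by simp [Projectivization.mk_eq_mk_iff']⟩⟩
  refine false_of_perm hno ((QuotientGroup.lift _ _ hker).comp e.toMonoidHom)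
    fun a b c d hab hcd => ?_
  obtain ⟨g, hg1, hg2⟩ := (MulAction.is_two_pretransitive_iff
    (G := Matrix.SpecialLinearGroup (Fin 2) F)).1 inferInstance hab hcd
  refine ⟨e.symm (QuotientGroup.mk g), ?_, ?_⟩ <;>
    simp only [MonoidHom.coe_comp, Function.comp_apply, MulEquiv.coe_toMonoidHom,
      MulEquiv.apply_symm_apply, QuotientGroup.lift_mk, MulAction.toPermHom_apply,
      MulAction.toPerm_apply] <;> assumption

/-- A proper subgroup `B` with one double coset outside it gives a doubly transitive action. -/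
theorem false_of_cells [IsSimpleGroup G] (hno : NoAction G) (B : Subgroup G) {u : G} (hu : u ∉ B)
    (hcover : ∀ g : G, g ∉ B → ∃ x ∈ B, ∃ b ∈ B, g = x * u * b) : False := by
  classical
  let eΩ : G ⧸ B ≃ Fin (Nat.card (G ⧸ B)) := Finite.equivFin _
  haveI : Nontrivial (G ⧸ B) := ⟨⟨(QuotientGroup.mk (1 : G)), QuotientGroup.mk u, fun h => hu (by
    simpa using QuotientGroup.eq.1 h)⟩⟩
  haveI : Nontrivial (Fin (Nat.card (G ⧸ B))) := eΩ.symm.nontrivial
  refine false_of_perm hno (eΩ.permCongrHom.toMonoidHom.comp (MulAction.toPermHom G (G ⧸ B)))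
    fun a b c d hab hcd => ?_
  -- every pair is an image of `(B, uB)`
  have key : ∀ a b : G ⧸ B, a ≠ b → ∃ g : G, g • (QuotientGroup.mk (1 : G) : G ⧸ B) = a ∧
      g • (QuotientGroup.mk u : G ⧸ B) = b := by
    intro a b hab
    induction a using QuotientGroup.induction_on with
    | H a =>
      induction b using QuotientGroup.induction_on with
      | H b =>
        have hn : a⁻¹ * b ∉ B := fun h => hab (QuotientGroup.eq.2 h)
        obtain ⟨x, hx, y, hy, he⟩ := hcover _ hn
        refine ⟨a * x, ?_, ?_⟩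
        · rw [MulAction.Quotient.smul_mk, smul_eq_mul, QuotientGroup.eq]
          simpa using inv_mem hx
        · rw [MulAction.Quotient.smul_mk, smul_eq_mul, QuotientGroup.eq]
          have hb : b = a * x * u * y := by
            calc b = a * (a⁻¹ * b) := by group
              _ = _ := by rw [he]; group
          rw [hb, show (a * x * u)⁻¹ * (a * x * u * y) = y by group]
          exact hy
  obtain ⟨g, hga, hgb⟩ := key (eΩ.symm a) (eΩ.symm b) (eΩ.symm.injective.ne hab)
  obtain ⟨k, hkc, hkd⟩ := key (eΩ.symm c) (eΩ.symm d) (eΩ.symm.injective.ne hcd)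
  refine ⟨k * g⁻¹, ?_, ?_⟩
  · show eΩ ((k * g⁻¹) • eΩ.symm a) = c
    rw [← hga, mul_smul, inv_smul_smul, hkc, Equiv.apply_symm_apply]
  · show eΩ ((k * g⁻¹) • eΩ.symm b) = d
    rw [← hgb, mul_smul, inv_smul_smul, hkd, Equiv.apply_symm_apply]

theorem false_of_isReeType [IsSimpleGroup G] (hno : NoAction G) (h : Cfsg.IsReeType G) : False := by
  obtain ⟨_, q, _, _, ⟨T, -, -⟩⟩ := ReeType.exists_setup_of_isReeType h
  obtain ⟨S, -⟩ := T.exists_modular_split
  have hη : zpowers S.η ≤ normalizer (S.P : Set G) := zpowers_le.2 (mem_normalizer_iff.2 S.norm)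
  have hu : S.u ∉ S.P ⊔ zpowers S.η := by
    intro hu
    have hN : S.u ∈ normalizer (S.P : Set G) := (sup_le le_normalizer hη) hu
    obtain ⟨z, hz⟩ := S.nontriv
    refine hz (Subtype.ext (S.free z z.2 ⟨_, ?_, 0, by rw [pow_zero, mul_one]⟩))
    have h1 := (mem_normalizer_iff.1 hN z).1 z.2
    rwa [show S.u⁻¹ = S.u from inv_eq_of_mul_eq_one_right S.u_sq] at h1
  refine false_of_cells hno (S.P ⊔ zpowers S.η) hu fun g hg => ?_
  rcases S.cover g with ⟨x, hx, i, rfl⟩ | ⟨x, hx, y, hy, i, rfl⟩
  · exact absurd (mul_mem (mem_sup_left hx) (mem_sup_right (pow_mem (mem_zpowers _) i))) hg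
  · exact ⟨x, mem_sup_left hx, y * S.η ^ i,
      mul_mem (mem_sup_left hy) (mem_sup_right (pow_mem (mem_zpowers _) i)), by group⟩

/-- Without a faithful doubly transitive action the group has the order of `J₁`. -/
theorem S4272_of_classified (hC : Classified.{u}) [IsSimpleGroup G] (hG : ¬ IsMulCommutative G)
    (P : Sylow 2 G) (hP : IsMulCommutative (P : Subgroup G)) (hno : NoAction G) :
    Nat.card G = 175560 := by
  have hab := abTwo_of_sylow P hP
  rcases hC G inferInstance hG hab with ⟨F, iF, iF', -, ⟨e⟩⟩ | hr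
  · exact (false_of_psl hno e).elim
  · have hr' := hr
    obtain ⟨-, t, ht, F, iF, iF', hF, ⟨e⟩⟩ := hr'
    rcases hF with h5 | ⟨m, hm, hF⟩
    · rcases Cfsg.Agent.S0343.result hab (by omega) t ht ⟨e⟩ with ⟨m', -, hq, -⟩ | ⟨-, hJ⟩
      · rw [h5] at hq
        have : 3 ∣ 5 := hq ▸ dvd_pow_self 3 (by omega)
        norm_num at this
      · exact hJ.2
    · exact (false_of_isReeType hno (isReeType_of_pow hab hr ht hm hF e)).elim

end CfsgLib.Walter.Consumers.TwoTransitive
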